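import Cfsg.Agent.TID.SO.Red2
import Cfsg.Agent.BpSpor.CoThreeTF
import Cfsg.Agent.H807.El.Conway
import Cfsg.Agent.SporadicA.Co0Basic

/-!
# The row `KSporOdd` (helper20, project TID): elements commuting with a `3²` or a `5²` in `Co0`
-/

set_option autoImplicit false
set_option linter.unusedSectionVars false

namespace Cfsg.Agent.TID.SO

open Cfsg Cfsg.Spor Subgroup Cfsg.Agent.TID Module
open Cfsg.Agent.PreUniqCo Cfsg.Agent.PreUniqCo.Gen Cfsg.Agent.PreUniqCo.LatCo Cfsg.Agent.PreUniqCo.Rows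
open Cfsg.Agent.PreUniqCo.FivePair (Dims Pr U)
open Cfsg.Agent.SigZeroCo2.Rank (fix mem_fix)
open Cfsg.Agent.SigZeroCo2.Lin (rep Sp)

universe u

section gen

variable {G : Type u} [Group G] [Finite G] {p : ℕ} [hp : Fact p.Prime] {D : Subgroup G}

/-- no element of odd prime order `r ≠ p` centralizes `D`, and `O₂(C(z)) = 1` for the `p`-central elements of `D` -/
theorem Sit.false_of_odd (hD : Sit p D)
    (h1 : ∀ (r : ℕ) (y : G), r.Prime → r ≠ 2 → r ≠ p → orderOf y = r → ¬ D ≤ C1 y)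
    (h2 : ∀ z ∈ D, PC p z → pCore 2 (C1 z) = ⊥) : False := by
  rcases hD.tri with ⟨L, hL⟩ | hT
  · obtain ⟨r, y, hr, hr2, hrp, hy, -, hDy⟩ := comp_exists_prime hL Nat.prime_two
    exact h1 r y hr hr2 hrp hy hDy
  · rcases hT.dich hD.loc.ti with h3 | ⟨r, hr, hr2, hrp, k, y, hy, hDy, -⟩
    · obtain ⟨z, hz, hzc⟩ := hT.exists_pc hD.loc
      exact h3 z hz (ne_one_of_order hzc.1) (h2 z hz hzc)
    · exact h1 r y hr hr2 hrp hy hDy

omit [Finite G] hp in
theorem five_le {r : ℕ} (hr : r.Prime) (h2 : r ≠ 2) (h3 : r ≠ 3) : 5 ≤ r := by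
  by_contra h
  have := hr.two_le
  interval_cases r
  · exact h2 rfl
  · exact h3 rfl
  · norm_num at hr

end gen

/-- `3²` in `Co0` commuting with an element of prime order at least five -/
theorem free_three {E : Subgroup Co0} (hE : IsElementaryAbelian 3 E) (hc : Nat.card E = 3 ^ 2) {y : Co0} {r : ℕ}
    (hr : r.Prime) (h2 : r ≠ 2) (h3 : r ≠ 3) (hy : orderOf y = r) (hEy : E ≤ C1 y) :
    ∃ x ∈ E, orderOf x = 3 ∧ finrank ℚ (fix (rep x)) = 0 := by
  have := finite_co0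
  obtain ⟨a, ha, b, hb, oa, ob, oab, oab2, hab⟩ := exists_gens hE hc
  have hay : Commute a y := (mem_C1.1 (hEy ha)).symm
  have hby : Commute b y := (mem_C1.1 (hEy hb)).symm
  rcases exists_free Facts.facts hr (five_le hr h2 h3) oa ob oab oab2 hy hab hay hby with h | h | h | h
  · exact ⟨a, ha, oa, h⟩
  · exact ⟨b, hb, ob, h⟩
  · exact ⟨_, E.mul_mem ha hb, oab, h⟩
  · exact ⟨_, E.mul_mem ha (E.pow_mem hb 2), oab2, h⟩

/-- `5²` in `Co0` commuting with an element of odd prime order other than five -/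
theorem free_five {E : Subgroup Co0} (hE : IsElementaryAbelian 5 E) (hc : Nat.card E = 5 ^ 2) {y : Co0} {r : ℕ}
    (hr : r.Prime) (h2 : r ≠ 2) (h5 : r ≠ 5) (hy : orderOf y = r) (hEy : E ≤ C1 y) :
    ∃ x ∈ E, orderOf x = 5 ∧ finrank ℚ (fix (rep x)) = 0 := by
  have := finite_co0
  by_contra hcon
  push Not at hcon
  obtain ⟨a, ha, b, hb, ob, oab, hab⟩ := FiveCo.exists_gens_five hE hc
  have oa : orderOf a = 5 := by
    have := oab 0
    rwa [pow_zero, mul_one] at this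
  have pa : rep a ^ 5 = 1 := by rw [← map_pow, ← oa, pow_orderOf_eq_one, map_one]
  have pb : rep b ^ 5 = 1 := by rw [← map_pow, ← ob, pow_orderOf_eq_one, map_one]
  have py : rep y ^ r = 1 := by rw [← map_pow, ← hy, pow_orderOf_eq_one, map_one]
  have hab' : Commute (rep a) (rep b) := hab.map rep
  have hay : Commute (rep a) (rep y) := Commute.map (mem_C1.1 (hEy ha)).symm rep
  have hby : Commute (rep b) (rep y) := Commute.map (mem_C1.1 (hEy hb)).symm rep
  have D : Dims (rep a) (rep b) := by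
    refine ⟨FiveCo.finrank_Sp, FiveCo.dims_five ob (hcon b hb ob), fun m _ => ?_⟩
    rw [← map_pow, ← map_mul]
    exact FiveCo.dims_five (oab m) (hcon _ (E.mul_mem ha (E.pow_mem hb m)) (oab m))
  refine h2 (FiveCo.eq_two Facts.facts hr hy (D.le_finrank_fix pa pb hab' fun X f h u hu => ?_))
  have hle := (D.le pa pb hab').2 X f h
  have hinv := FivePair.U_inv (h.comm_left hay hby) (h.comm_right hay hby)
  by_cases h3 : r = 3
  · subst h3
    exact mem_fix.1 (BpSpor.CoThreeTF.small hle (h.pow pa pb) py (h.comm_right hay hby)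
      (FivePair.U_inv (h.comm hab') (Commute.refl f)) hinv
      (fun w hw hfw => CpAutCoFive.eq_zero_of_fix (by norm_num) hfw hw.2) hu)
  · obtain ⟨k, hk⟩ := Rat.sub_prime (U X f) hr hinv py
    have h6 := five_le hr h2 h3
    have h7 : 7 ≤ r := by
      by_contra h7
      interval_cases r
      · exact h5 rfl
      · norm_num at hr
    have hk0 : k = 0 := by
      by_contra hk0
      have : r - 1 ≤ (r - 1) * k := Nat.le_mul_of_pos_right _ (Nat.pos_of_ne_zero hk0)
      omega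
    rw [hk0, mul_zero, add_zero] at hk
    have h8 : U X f ⊓ fix (rep y) = U X f := Submodule.eq_of_le_of_finrank_eq inf_le_left hk.symm
    rw [← h8] at hu
    exact mem_fix.1 hu.2

/-- a group of automorphisms of the lattice with a nonzero fixed vector -/
def Fx (H : Type u) [Group H] : Prop :=
  ∃ (φ : H →* Co0) (v : leechLattice), Function.Injective φ ∧ v ≠ 0 ∧ ∀ h, φ h • v = v

theorem Fx.of_inj {H : Type u} [Group H] {K : Type*} [Group K] (h : Fx K) (f : H →* K) (hf : Function.Injective f) :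
    Fx H := by
  obtain ⟨φ, v, h1, h2, h3⟩ := h
  exact ⟨φ.comp f, v, h1.comp hf, h2, fun x => h3 (f x)⟩

theorem Fx.not_com {H : Type u} [Group H] (h : Fx H) {p r : ℕ} (hp : p = 3 ∨ p = 5) (hr : r.Prime) (h2 : r ≠ 2)
    (hrp : r ≠ p) : ¬ Com p r H := by
  obtain ⟨φ, v, h1, h3, h4⟩ := h
  rintro ⟨V, y, hV, hc, hy, hVy⟩
  obtain ⟨W, h5, h6, h7⟩ := rk2_map (⟨V, le_rfl, hV, hc⟩ : Rk2 p V) h1
  have h8 : W ≤ C1 (φ y) := fun w hw => by
    obtain ⟨x, hx, rfl⟩ := h5 hw
    exact mem_C1.2 (by rw [← map_mul, ← map_mul, mem_C1.1 (hVy hx)])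
  have h9 : orderOf (φ y) = r := by rw [orderOf_injective φ h1, hy]
  rcases hp with rfl | rfl
  · obtain ⟨x, hx, -, h0⟩ := free_three h6 h7 hr h2 hrp h9 h8
    obtain ⟨a, -, rfl⟩ := h5 hx
    exact finrank_ne_zero h3 (h4 a) h0
  · obtain ⟨x, hx, -, h0⟩ := free_five h6 h7 hr h2 hrp h9 h8
    obtain ⟨a, -, rfl⟩ := h5 hx
    exact finrank_ne_zero h3 (h4 a) h0

theorem fx_co2 : Fx Co2 :=
  ⟨Subgroup.inclusion (inf_le_left : Co2 ≤ Co0), leechU, Subgroup.inclusion_injective _, leechU_ne, fun x => x.2.2⟩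

theorem fx_co3 : Fx Co3 :=
  ⟨Subgroup.inclusion (inf_le_left : Co3 ≤ Co0), leechV, Subgroup.inclusion_injective _, leechV_ne, fun x => x.2.2⟩

theorem fx_mcl : Fx McL :=
  fx_co3.of_inj (Subgroup.inclusion (inf_le_left : McL ≤ Co3)) (Subgroup.inclusion_injective _)

theorem fx_hs : Fx HS :=
  fx_co3.of_inj (Subgroup.inclusion (inf_le_left : HS ≤ Co3)) (Subgroup.inclusion_injective _)

theorem fx_m24 : Fx M24 := by
  obtain ⟨F, hF⟩ := H807.El.exists_F
  have h1 : ∀ j, ((∑ i, SporadicA.Co0Basic.e8 i : leechLattice) : GolayPt → ℤ) j = 8 := by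
    intro j
    rw [AddSubgroup.val_finsetSum, Finset.sum_apply, Finset.sum_congr rfl fun i _ => SporadicA.Co0Basic.e8_apply i j]
    simp
  refine ⟨F, ∑ i, SporadicA.Co0Basic.e8 i, H807.El.F_injective F hF, fun h => ?_, fun s => Subtype.ext (funext fun j => ?_)⟩
  · have h2 := h1 none
    rw [h] at h2
    exact absurd h2 (by decide)
  · rw [hF, h1, h1]

theorem fx_m12 : Fx M12 :=
  fx_m24.of_inj (Subgroup.inclusion (inf_le_left : M12 ≤ M24)) (Subgroup.inclusion_injective _)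

/-- the lift of a subgroup of order `p ^ 2` of `Co1` -/
theorem lift_pair {p : ℕ} [hp : Fact p.Prime] (hp2 : Odd p) {V : Subgroup Co1} (hV : IsElementaryAbelian p V)
    (hc : Nat.card V = p ^ 2) {y : Co1} {r : ℕ} (hr : Odd r) (hy : orderOf y = r) (hVy : V ≤ C1 y) :
    ∃ (E : Subgroup Co0) (y' : Co0), IsElementaryAbelian p E ∧ Nat.card E = p ^ 2 ∧ orderOf y' = r ∧ E ≤ C1 y' ∧
      ∀ x ∈ E, (QuotientGroup.mk x : Co1) ∈ V := by
  have := finite_co0
  obtain ⟨a, ha, ha1⟩ := V.bot_or_exists_ne_one.resolve_left (el_ne_bot hc)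
  obtain ⟨b, hb, hba⟩ := el_exists_not_mem hV hc a ha
  have oa := el_order hV ha ha1
  have ob := el_order hV hb (fun h => hba (h ▸ one_mem _))
  obtain ⟨a', rfl, oa'⟩ := exists_lift a hp2 oa
  obtain ⟨b', rfl, ob'⟩ := exists_lift b hp2 ob
  obtain ⟨y', rfl, oy'⟩ := exists_lift y hr hy
  have hab : Commute a' b' := commute_lift hp2 ob' (el_comm hV ha hb)
  have hay : Commute a' y' := commute_lift hr oy' (mem_C1.1 (hVy ha)).symm
  have hby : Commute b' y' := commute_lift hr oy' (mem_C1.1 (hVy hb)).symm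
  obtain ⟨h1, h2⟩ := exists_pair oa' ob' hab (fun h => hba (by
    obtain ⟨k, hk⟩ := mem_zpowers_iff.1 h
    exact mem_zpowers_iff.2 ⟨k, by rw [← hk]; rfl⟩))
  refine ⟨_, y', h1, h2, oy', (closure_le _).2 ?_, fun x hx => ?_⟩
  · rintro x (rfl | rfl)
    · exact mem_C1.2 hay.symm
    · exact mem_C1.2 hby.symm
  · have h3 : closure ({a', b'} : Set Co0) ≤ V.comap (QuotientGroup.mk' (center Co0)) := by
      refine (closure_le _).2 ?_
      rintro x (rfl | rfl)
      · exact ha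
      · exact hb
    exact h3 hx

theorem order_mk {x : Co0} {p : ℕ} [hp : Fact p.Prime] (hp2 : p ≠ 2) (hx : orderOf x = p) :
    orderOf (QuotientGroup.mk x : Co1) = p := by
  refine orderOf_eq_prime ?_ fun h => ?_
  · change (QuotientGroup.mk (x ^ p) : Co1) = 1
    rw [← hx, pow_orderOf_eq_one]
    rfl
  · have h1 : orderOf x ∣ 2 := orderOf_dvd_iff_pow_eq_one.2 (center_sq ((QuotientGroup.eq_one_iff x).1 h))
    rw [hx] at h1
    exact hp2 ((Nat.prime_dvd_prime_iff_eq hp.out Nat.prime_two).1 h1)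

end Cfsg.Agent.TID.SO
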