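import Cfsg.Agent.TID.SO.Red2
import Cfsg.Agent.TID.SO.Asm
import Cfsg.Agent.H582.Ly.Row
import Cfsg.Agent.PreUniq.SporMcLLy

/-!
# The row `KSporOdd` (helper20, project TID): the Lyons group
-/

set_option autoImplicit false
set_option linter.unusedSectionVars false

namespace Cfsg.Agent.TID.SO

open Cfsg Subgroup Equiv Cfsg.Agent.TID
open Cfsg.Agent.TypeM.Two Cfsg.Agent.H582.Ly Cfsg.Agent.CpAutLy Cfsg.Agent.PreUniq.Spor

universe u

variable {G : Type u} [Group G] [Finite G]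

/-- a four-group normalizing a nontrivial group of odd order -/
theorem exists_fix_four {s w : G} (hs : orderOf s = 2) (hw : orderOf w = 2) (hsw : orderOf (s * w) = 2)
    (hc : w * s = s * w) {H Y : Subgroup G} (hsH : s ∈ H) (hwH : w ∈ H) (hn : H ≤ Nz Y) (h2 : ¬ 2 ∣ Nat.card Y)
    (h1 : Y ≠ ⊥) : ∃ u ∈ H, orderOf u = 2 ∧ Y ⊓ C1 u ≠ ⊥ := by
  have := Fact.mk Nat.prime_two
  have hne : w ∉ zpowers s := by
    intro h
    have h3 : zpowers w = zpowers s :=
      Subgroup.eq_of_le_of_card_ge (zpowers_le.2 h) (by rw [Nat.card_zpowers, Nat.card_zpowers, hs, hw])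
    obtain ⟨k, hk⟩ := mem_zpowers_iff.1 h
    have hs2 : s ^ (2 : ℤ) = 1 := by
      have := pow_orderOf_eq_one s
      rw [hs] at this
      exact_mod_cast this
    rcases Int.even_or_odd' k with ⟨m, rfl | rfl⟩
    · rw [zpow_mul, hs2, one_zpow] at hk
      rw [← hk, orderOf_one] at hw
      norm_num at hw
    · rw [zpow_add, zpow_mul, hs2, one_zpow, one_mul, zpow_one] at hk
      rw [← hk, ← pow_two, ← hs, pow_orderOf_eq_one, orderOf_one, hs] at hsw
      norm_num at hsw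
  obtain ⟨h3, h4⟩ := exists_pair hs hw hc.symm hne
  have h5 : closure ({s, w} : Set G) ≤ H := by
    refine (closure_le _).2 ?_
    rintro x (rfl | rfl)
    · exact hsH
    · exact hwH
  have := h3.1
  by_contra hcon
  push Not at hcon
  apply h1
  rw [← Cfsg.Agent.S0058.result _ Y (el_not_cyclic h3 h4) (h5.trans hn) (by
    rw [h4]
    exact Nat.Coprime.pow_left _ ((Nat.Prime.coprime_iff_not_dvd Nat.prime_two).2 h2)), eq_bot_iff]
  refine iSup_le fun a => iSup_le fun ha => ?_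
  exact (hcon a (h5 ha.1) (el_order h3 ha.1 ha.2)).le

/-! ### `p = 5` -/

theorem ly_not_fv {D : Subgroup G} (hD : Sit 5 D) {t f : G} {K S : Subgroup G} (h : Fv t f K S) : f ∉ D := by
  have := Fact.mk Nat.prime_five
  intro hf
  have h1 : K ≤ C1 f := fun k hk => mem_C1.2 (h.h.cent k hk).symm
  refine hD.not_Q h.isPGroup_K (h1.trans (hD.loc.ti.cent_le hf h.h.f_ne)) ((Cz_le_C1 hf).trans (le_Nz ?_)) ?_
  · intro g hg k hk
    refine h.h.norm g ?_ k hk
    rw [← mem_C1.1 hg, mul_inv_cancel_right]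
    exact mem_zpowers f
  · intro y hy hyK hy5
    have h2 : y ∈ K := h.mem_of_comm (mem_C1.1 (Cz_le_C1 hf hy)).symm fun k hk => (mem_Cz.1 hyK k hk).symm
    obtain ⟨k, hk⟩ := pow_eq_one_of_mem h.isPGroup_K h2
    exact eq_one_of_pow hk hy5

theorem row_ly_5 : Row.{u} 5 (fun S _ => Spor.IsoLy S) := by
  intro G _ _ h D hD
  have := Fact.mk Nat.prime_five
  obtain ⟨x₀, ⟨T⟩⟩ := exists_dat h
  rcases hD.tri with ⟨L, hL⟩ | hT
  · obtain ⟨V, h1, h2, h3⟩ := hD.loc.rk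
    obtain ⟨v, hv, hv1⟩ := V.bot_or_exists_ne_one.resolve_left (el_ne_bot h3)
    rcases solvable_or T.FT T.L (el_order h2 hv hv1) with h4 | ⟨t, K, S, h4⟩
    · have h5 : L ≤ C1 v := hL.le.trans (Cz_le_C1 (h1 hv))
      exact not_solvable hL (Group.isSolvable_of_isSolvable_injective (f := inclusion h5) (inclusion_injective h5))
    · exact ly_not_fv hD h4 (h1 hv)
  · obtain ⟨P, z, -, -, hz, hz5, hPz⟩ := central_of_caseI hD.loc hT.1
    obtain ⟨f, K, S, h1⟩ := exists_fv T.L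
    obtain ⟨t', f', K', S', h2, P', h3, h4, h5, -⟩ := h1.exists_sylow T.card P.isPGroup'
    have h6 : (P' : Subgroup G) = P := P.is_maximal' P'.isPGroup' h3
    rw [h6] at h4 h5
    have h7 : ∀ k ∈ K', z * k = k * z := fun k hk => mem_C1.1 (hPz (h4 hk))
    have h8 : z ∈ zpowers f' := h2.center z (h2.mem_of_comm (h7 f' h2.h.mem) h7) h7
    have h9 : zpowers z = zpowers f' :=
      Subgroup.eq_of_le_of_card_ge (zpowers_le.2 h8) (by rw [Nat.card_zpowers, Nat.card_zpowers, hz5, h2.h.f5])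
    exact ly_not_fv hD h2 (zpowers_le.2 hz (h9 ▸ mem_zpowers f'))

/-! ### `p = 3` -/

theorem ly_not_tdata {D : Subgroup G} (hD : Sit 3 D) {x : G} (h : TData x) : x ∉ D := by
  have := Fact.mk Nat.prime_three
  intro hx
  obtain ⟨_, hs, hc, -⟩ := TypeM.FactsMcL.facts h.mcl.quot
  refine false_of_quot hD.loc.pgrp hD.loc.ti hD.loc.rk hx h.ord (S := C1 x ⧸ center (C1 x)) (fun h1 => ?_) rfl
    (QuotientGroup.mk' _) (QuotientGroup.mk'_surjective _) fun c hc _ => ?_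
  · let _ : CommGroup (C1 x ⧸ center (C1 x)) := { (inferInstance : Group _) with mul_comm := h1.1.1 }
    have h2 : (Nat.card (C1 x ⧸ center (C1 x))).Prime := IsSimpleGroup.prime_card
    rw [hc] at h2
    norm_num at h2
  · have h1 : (⟨x, mem_C1.2 rfl⟩ : C1 x) ∈ center (C1 x) :=
      mem_center_iff.2 fun g => Subtype.ext (mem_C1.1 g.2).symm
    have h2 : zpowers (⟨x, mem_C1.2 rfl⟩ : C1 x) = center (C1 x) :=
      Subgroup.eq_of_le_of_card_ge (zpowers_le.2 h1) (by rw [Nat.card_zpowers, h.mcl.zcard, orderOf_mk, h.ord])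
    have h3 : c ∈ center (C1 x) := (QuotientGroup.eq_one_iff c).1 hc
    rw [← h2] at h3
    obtain ⟨k, hk⟩ := mem_zpowers_iff.1 h3
    exact mem_zpowers_iff.2 ⟨k, congrArg Subtype.val hk⟩

theorem ly_not_nn {x₀ : G} (T : Dat G x₀) {D : Subgroup G} (hD : Sit 3 D) {x t : G} (hx : x ∈ D) (h3 : orderOf x = 3)
    (ht : orderOf t = 2) (htx : t * x = x * t) : Types.nn x t ≠ 120960 := by
  intro h
  obtain ⟨s, h1, h2, h4⟩ := T.three.nn
  obtain ⟨g, hg⟩ := Types.exists_conj_of_nn T.L T.three.ord h1 h2 h4 h3 ht htx h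
  exact ly_not_tdata hD (T.three.conj g) (hg ▸ hx)

theorem ly_not_four {x₀ : G} (T : Dat G x₀) {D : Subgroup G} (hD : Sit 3 D) {t : G} (ht : orderOf t = 2)
    (hDt : D ≤ C1 t) : ¬ 4 ∣ Nat.card ↥(Cz D ⊓ C1 t) := by
  have := Fact.mk Nat.prime_three
  intro h4
  obtain ⟨h1, h2⟩ := MT.sq_of_orderOf ht
  obtain ⟨L, rfl⟩ := T.L.exists_rebase h1 h2
  obtain ⟨E, hED, hEa, hEc⟩ := hD.loc.rk
  have hE : E ≤ C1 L.t := hED.trans hDt
  obtain ⟨c, hc, ho, hcE⟩ := MTRow.exists_inv L hE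
    (h4.trans (card_dvd_of_le (le_inf inf_le_right (inf_le_left.trans (centralizer_le hED)))))
  obtain ⟨b, hb, e, he, hb1, he1, u, v, huv, hbu, hbv, heu, hev, hw⟩ :=
    PermF.exists_pair_eleven (A := MTRow.im L E) (c := c)
      (by rw [MTRow.card_im (p := 3) L (by norm_num) hE hEa, hEc]; norm_num)
      (MTRow.comm_im L hE hEa) (fun a ha => MTRow.pow_im L hE hEa ha) hc ho hcE
  have key : ∀ a ∈ MTRow.im L E, a ≠ 1 → 6 ≤ a.support.card := by
    intro a ha ha1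
    obtain ⟨x, hx, rfl⟩ := (MTRow.mem_im L hE).1 ha
    have hx1 : x ≠ 1 := by
      rintro rfl
      exact ha1 (map_one L.K.π)
    have hx3 := el_order hEa hx hx1
    have htx : L.t * x = x * L.t := mem_C1.1 (hE hx)
    rw [← Perm.sum_cycleType]
    rcases Types.cases L hx3 htx with h | h | h
    · exact absurd h.2 (ly_not_nn T hD (hED hx) hx3 ht htx)
    · rw [show (L.K.π ⟨x, hE hx⟩).cycleType = {3, 3} from h.1]
      decide
    · rw [show (L.K.π ⟨x, hE hx⟩).cycleType = {3, 3, 3} from h.1]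
      decide
  have h5 := key b hb hb1
  have h6 := key e he he1
  have h7 : Disjoint b.support e.support := Perm.Disjoint.disjoint_support hw
  have h8 := Finset.card_le_univ (b.support ∪ e.support)
  rw [Finset.card_union_of_disjoint h7, Fintype.card_fin] at h8
  omega

theorem ly_not_five {x₀ : G} (T : Dat G x₀) {u y : G} (hu : orderOf u = 2) (hy : orderOf y = 5) :
    ¬ 27 ∣ Nat.card ↥(C1 u ⊓ C1 y) ∨ y ∉ C1 u := by
  by_cases hyu : y ∈ C1 u
  swap
  · exact Or.inr hyu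
  left
  intro h
  obtain ⟨h1, h2⟩ := MT.sq_of_orderOf hu
  obtain ⟨L, rfl⟩ := T.L.exists_rebase h1 h2
  have h3 : 27 ∣ Nat.card (centralizer ({⟨y, hyu⟩} : Set (C1 L.t))) := by
    refine h.trans ?_
    rw [← card_map_of_injective (K := centralizer ({⟨y, hyu⟩} : Set (C1 L.t))) (C1 L.t).subtype_injective]
    exact card_dvd_of_le fun g hg => ⟨⟨g, hg.1⟩, mem_C1.2 (Subtype.ext (mem_C1.1 hg.2)), rfl⟩
  rcases CpAut.CycFive.five_cases L.K (y := ⟨y, hyu⟩) (Subtype.ext (by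
    change y ^ 5 = 1
    rw [← hy, pow_orderOf_eq_one])) (fun h4 => by
      have h5 : y = 1 := congrArg Subtype.val h4
      rw [h5, orderOf_one] at hy
      norm_num at hy) with h4 | h4
  · exact absurd (h3.trans (CpAut.LyFive.card_cent_five L.K h4)) (by norm_num)
  · exact absurd (h3.trans (CpAut.LyFive.card_cent_five_two L.K h4)) (by norm_num)

theorem row_ly_3 : Row.{u} 3 (fun S _ => Spor.IsoLy S) := by
  intro G _ _ h D hD
  have := Fact.mk Nat.prime_three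
  obtain ⟨x₀, ⟨T⟩⟩ := exists_dat h
  rcases hD.tri with ⟨L, hL⟩ | hT
  · obtain ⟨t, R, ht, -, h1, h2, -, h4, -, hDt⟩ := comp_exists_inv hL
    exact ly_not_four T hD ht hDt (h4.trans (card_dvd_of_le (le_inf (h1.trans hL.le) h2)))
  obtain ⟨z, hz, hz3, -⟩ := hT.exists_pc hD.loc
  obtain ⟨hI, Y, h1, h2, h3, h4⟩ := hT
  by_cases h5 : 2 ∣ Nat.card Y
  · obtain ⟨k, y, hy, hDy, hk, h6, h7⟩ := num_of hI h2 h3 h4 Nat.prime_two h5
    have h8 : k = 1 := by
      by_contra h8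
      exact ly_not_four T hD hy hDy ((pow_dvd_pow 2 (show 2 ≤ k by omega)).trans h6)
    have h9 := h7 7 (by rw [T.card]; norm_num)
    obtain ⟨h10, h11⟩ := MT.sq_of_orderOf hy
    obtain ⟨L, rfl⟩ := T.L.exists_rebase h10 h11
    rw [h8, show Nat.card (C1 L.t) = _ from TypeM.FactsAut.card_centralizer L (by norm_num)] at h9
    exact absurd h9 (by decide)
  obtain ⟨s, w, hs, hw, hsw, h6, h7, h8⟩ := exists_four T.L T.card T.three hz3 (by
    rintro ⟨g, hg⟩
    refine ly_not_tdata hD (T.three.conj g⁻¹) ?_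
    rw [← hg, show g⁻¹ * (g * z * g⁻¹) * g⁻¹⁻¹ = z by group]
    exact hz)
  have hH : C1 z ≤ Nz Y := (hD.loc.ti.cent_le hz (ne_one_of_order hz3)).trans h4
  obtain ⟨u, hu, hu2, h9⟩ := exists_fix_four hs hw hsw h8 (mem_C1.2 h6.symm) (mem_C1.2 h7.symm) hH h5 h1
  have huz : u * z = z * u := (mem_C1.1 hu).symm
  have hYz : Y ≤ C1 z := h2.trans (Cz_le_C1 hz)
  have h10 : Nat.card ↥(Y ⊓ C1 u) ∣ Types.nn z u := card_dvd_of_le (inf_le_inf_right _ hYz)
  have h11 : Nat.card ↥(Y ⊓ C1 u) ∣ Nat.card Y := card_dvd_of_le inf_le_left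
  have h12 : (Nat.card ↥(Y ⊓ C1 u)).Coprime (2 ^ 4 * 3 ^ 4) :=
    Nat.Coprime.mul_right
      (Nat.Coprime.pow_right _ ((Nat.Prime.coprime_iff_not_dvd Nat.prime_two).2 fun h => h5 (h.trans h11)).symm)
      (Nat.Coprime.pow_right _ ((Nat.Prime.coprime_iff_not_dvd Nat.prime_three).2 fun h => h3 (h.trans h11)).symm)
  have h13 : Types.nn z u = 2160 ∨ Types.nn z u = 324 :=
    (Types.nn_cases T.L hz3 hu2 huz).resolve_left (ly_not_nn T hD hz hz3 hu2 huz)
  have h14 : Nat.card ↥(Y ⊓ C1 u) = 5 := by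
    have h15 : Nat.card ↥(Y ⊓ C1 u) ∣ 2 ^ 4 * 3 ^ 4 * 5 := by
      rcases h13 with h | h <;> exact h10.trans (by rw [h]; norm_num)
    exact ((Nat.dvd_prime Nat.prime_five).1 (h12.dvd_of_dvd_mul_left h15)).resolve_left fun h => h9 (card_eq_one.1 h)
  obtain ⟨R, hR⟩ := Sylow.exists_subgroup_card_pow_prime (G := ↥(C1 z ⊓ C1 u)) 3 (n := 3) (by
    rcases h13 with h | h <;> exact (show Nat.card ↥(C1 z ⊓ C1 u) = _ from h) ▸ (by norm_num))
  have hR' : Nat.card (R.map (C1 z ⊓ C1 u).subtype) = 3 ^ 3 := by rw [card_map_of_injective (subtype_injective _), hR]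
  have hRle : R.map (C1 z ⊓ C1 u).subtype ≤ C1 z ⊓ C1 u := map_subtype_le _
  obtain ⟨y, hy, hy1, hd⟩ := exists_orbit (p := 3) (IsPGroup.of_card hR') h9
    (le_Nz_inf (hRle.trans (inf_le_left.trans hH)) (hRle.trans (inf_le_right.trans le_normalizer)))
  rw [hR', h14] at hd
  have h15 : 27 ∣ Nat.card ↥(R.map (C1 z ⊓ C1 u).subtype ⊓ C1 y) :=
    (show Nat.Coprime 27 4 by norm_num).dvd_of_dvd_mul_left hd
  have h16 : orderOf y = 5 := by
    have := Fact.mk Nat.prime_five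
    refine orderOf_eq_prime ?_ hy1
    rw [← h14]
    exact orderOf_dvd_iff_pow_eq_one.1 (orderOf_dvd_natCard _ hy)
  rcases ly_not_five T hu2 h16 with h17 | h17
  · exact h17 (h15.trans (card_dvd_of_le (inf_le_inf_right _ (hRle.trans inf_le_right))))
  · exact h17 hy.2

end Cfsg.Agent.TID.SO
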