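import Cfsg.Agent.TID.SO.Asm
import Cfsg.Agent.TID.SO.D.Gen
import Cfsg.Agent.TID.SO.E.Base
import Cfsg.Agent.LThreeFi24N.GoodD
import Cfsg.Agent.LThreeFi24.EmptyInv
import Cfsg.Agent.CTwoTab.FiTF
import Cfsg.Agent.H830.TriMain
import Cfsg.Agent.SignalizersComponents.QuasisimpleQuotient
import Cfsg.Agent.S5499
import Cfsg.Agent.S5503

/-!
# The row `KSporOdd` (helper20, project TID): `Fi24'`, `p = 3`
-/

set_option autoImplicit false
set_option linter.unusedSectionVars false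
set_option maxRecDepth 100000
set_option maxHeartbeats 400000

namespace Cfsg.Agent.TID.SO

open Cfsg Subgroup Cfsg.Agent.TID
open Cfsg.Agent.SignalizersComponents
open scoped commutatorElement

universe u v

section gen

theorem comp_map_inj {A : Type u} {B : Type v} [Group A] [Group B] (f : A →* B) (hf : Function.Injective f)
    (hn : f.range.Normal) {K : Subgroup A} (hK : IsComponent K) : IsComponent (K.map f) := by
  have h1 := Components.isComponent_map_subtype hn.isSubnormal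
    (Components.isComponent_map_equiv (MonoidHom.ofInjective hf) hK)
  rw [map_map] at h1
  exact h1

variable {G : Type u} [Group G] [Finite G] {p : ℕ} [hp : Fact p.Prime]

theorem not_noComp {K : Subgroup G} (hK : IsComponent K) (hd : p ∣ Nat.card K) : ¬ BpSpor.NoComp p G := by
  intro h
  have := Lib.Cores.pPrimeCore_normal (G := G) p
  exact h _ (QuasisimpleQuotient.isComponent_map_mk' hK fun h1 => not_dvd_core G (hd.trans (card_dvd_of_le h1)))

/-- `w ∈ S × K`, and `K` has a simple normal subgroup `E` with `C_K(E) ≤ E` -/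
theorem kill_core {D S K E : Subgroup G} (hD : IsPGroup p D) {w : G} (hw : w ∈ D)
    (hc : ∀ x ∈ S, ∀ y ∈ K, x * y = y * x) (hwN : w ∈ S ⊔ K) (hEK : E ≤ K) (hKE : K ≤ Nz E) (hEN : E ≤ Nz D)
    (hs : IsSimpleGroup E) (hE : ¬ IsMulCommutative E) (hcent : ∀ k ∈ K, k ∈ Cz E → k ∈ E) : w ∈ S := by
  obtain ⟨s, hs', k, hk, h1⟩ := SO.D.exists_mul hc hwN
  have hDE : ∀ x ∈ E, x ∈ D → x = 1 := fun x hx hxD =>
    congrArg Subtype.val (map_eq_one hD hEN hE (MonoidHom.id E) Function.surjective_id (x := ⟨x, hx⟩) hxD)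
  have hkc : k ∈ Cz E := by
    refine mem_Cz.2 fun g hg => ?_
    have h2 : g * w * g⁻¹ * w⁻¹ ∈ D := mul_mem (conj_mem (hEN hg) hw) (inv_mem hw)
    have h0 : g * k * g⁻¹ * k⁻¹ ∈ E := by
      rw [show g * k * g⁻¹ * k⁻¹ = g * (k * g⁻¹ * k⁻¹) by group]
      exact mul_mem hg (conj_mem (hKE hk) (inv_mem hg))
    have h3 : g * w * g⁻¹ * w⁻¹ = g * k * g⁻¹ * k⁻¹ := by
      have h4 := hc s hs' _ (hEK h0)
      calc g * w * g⁻¹ * w⁻¹ = (g * s) * k * g⁻¹ * k⁻¹ * s⁻¹ := by rw [h1]; group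
        _ = s * (g * k * g⁻¹ * k⁻¹) * s⁻¹ := by rw [← hc s hs' g (hEK hg)]; group
        _ = _ := by rw [h4]; group
    rw [h3] at h2
    have h5 := hDE _ h0 h2
    calc g * k = (g * k * g⁻¹ * k⁻¹) * (k * g) := by group
      _ = k * g := by rw [h5, one_mul]
  have hkz : (⟨k, hcent k hk hkc⟩ : E) ∈ center E := mem_center_iff.2 fun g => Subtype.ext (mem_Cz.1 hkc g g.2)
  have hk1 : k = 1 := by
    rcases (inferInstance : (center E).Normal).eq_bot_or_eq_top with h2 | h2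
    · rw [h2, mem_bot] at hkz
      exact congrArg Subtype.val hkz
    · exact absurd ⟨⟨fun a b => mem_center_iff.1 (h2 ▸ mem_top b) a⟩⟩ hE
  rw [h1, hk1, mul_one]
  exact hs'

omit [Finite G] hp in
theorem le_commutator_of_simple {E : Subgroup G} (hs : IsSimpleGroup E) (hE : ¬ IsMulCommutative E) :
    E ≤ commutator G := by
  rcases (inferInstance : ((commutator G).subgroupOf E).Normal).eq_bot_or_eq_top with h | h
  · refine absurd ⟨⟨fun a b => ?_⟩⟩ hE
    have h1 : ⁅a, b⁆ ∈ (commutator G).subgroupOf E :=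
      commutator_mem_commutator (mem_top (a : G)) (mem_top (b : G))
    rw [h, mem_bot] at h1
    exact commutatorElement_eq_one_iff_mul_comm.1 h1
  · exact subgroupOf_eq_top.1 h

end gen

namespace Fi3

open Cfsg.Spor (Fi24 Fi24')
open Cfsg.Agent.R08.FiTwentyFour (L finite_Fi24 index_commutator)

theorem mem_of_pelt {x : Fi24} {k : ℕ} (h : x ^ 3 ^ k = 1) : x ∈ commutator Fi24 := by
  have h1 : ((QuotientGroup.mk' (commutator Fi24)) x) ^ 3 ^ k = 1 := by rw [← map_pow, h, map_one]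
  have h2 : ((QuotientGroup.mk' (commutator Fi24)) x) ^ 2 = 1 := by
    rw [← index_commutator]
    exact pow_card_eq_one'
  have h3 := Nat.dvd_gcd (orderOf_dvd_of_pow_eq_one h2) (orderOf_dvd_of_pow_eq_one h1)
  rw [(Nat.Coprime.pow_right k (by norm_num : Nat.Coprime 2 3)).gcd_eq_one, Nat.dvd_one, orderOf_eq_one_iff] at h3
  exact (QuotientGroup.eq_one_iff x).1 h3

theorem mem_Nz_of {z q : Fi24'} (h : (q : Fi24) ∈ Nz (zpowers (z : Fi24))) : q ∈ Nz (zpowers z) := by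
  rw [mem_normalizer_iff] at h ⊢
  intro x
  have key : ∀ y : Fi24', y ∈ zpowers z ↔ (y : Fi24) ∈ zpowers (z : Fi24) := fun y =>
    ⟨fun ⟨k, hk⟩ => ⟨k, congrArg Subtype.val hk⟩, fun ⟨k, hk⟩ => ⟨k, Subtype.ext hk⟩⟩
  exact ((key x).trans (h x)).trans (key (q * x * q⁻¹)).symm

variable [Finite Fi24] [Fact (Nat.Prime 3)] {D : Subgroup Fi24'}

/-- the first case -/
theorem not_caseI (h : Sit 3 D) : ¬ CaseI 3 D := by
  intro h1
  obtain ⟨P, z, h2, -, hz, hzp, h3⟩ := central_of_caseI h.loc h1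
  obtain ⟨d, H, h24⟩ := SO.D.hyp24
  have hP : IsPGroup 3 ((P : Subgroup Fi24').map (commutator Fi24).subtype) := P.isPGroup'.map _
  have hi : ¬ 3 ∣ ((P : Subgroup Fi24').map (commutator Fi24).subtype).index := by
    rw [index_map_subtype, index_commutator]
    intro h4
    rcases (Nat.Prime.dvd_mul Nat.prime_three).1 h4 with h5 | h5
    · exact P.not_dvd_index h5
    · norm_num at h5
  have hc := SO.D.central_form (P := hP.toSylow hi) (z := (z : Fi24)) ⟨z, h2 hz, rfl⟩ (by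
    rintro _ ⟨x, hx, rfl⟩
    exact mem_C1.2 (congrArg Subtype.val (mem_C1.1 (h3 hx))))
  obtain ⟨-, hQ, -⟩ := S5503.result H.tt H.prim d H.mem H.h3 H.h2 h24 (zpowers (z : Fi24))
    (by rw [Nat.card_zpowers, orderOf_coe, hzp]) hc _ _ _ rfl rfl rfl
  have hQp := IsPGroup.of_card hQ
  have hn := Lib.GenFitting.genFitting_normal (G := Nz (zpowers (z : Fi24)))
  have hCN : ∀ c ∈ Cz D, (c : Fi24) ∈ Nz (zpowers (z : Fi24)) := fun c hc =>
    C1_le_Nz_zpowers _ (mem_C1.2 (congrArg Subtype.val (mem_Cz.1 hc z hz)))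
  refine h.not_Q (hQp.comap_subtype (K := commutator Fi24)) (fun q hq => ?_) (le_Nz fun c hc q hq => ?_)
    fun y hy hyQ hy3 => ?_
  · refine h.loc.ti.norm_le (zpowers_le.2 hz) ?_ (mem_Nz_of (map_subtype_le _ hq))
    rw [Ne, zpowers_eq_bot]
    exact ne_one_of_order hzp
  · obtain ⟨x, hx, hxq⟩ := hq
    refine ⟨_, hn.conj_mem x hx ⟨c, hCN c hc⟩, ?_⟩
    change (c : Fi24) * x * (c : Fi24)⁻¹ = c * q * (c : Fi24)⁻¹
    rw [show (x : Fi24) = q from hxq]
  · have h4 : (⟨y, hCN y hy⟩ : Nz (zpowers (z : Fi24))) ∈ generalizedFittingSubgroup (Nz (zpowers (z : Fi24))) := by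
      refine Lib.GenFitting.centralizer_genFitting_le (mem_Cz.2 fun x hx => Subtype.ext ?_)
      obtain ⟨k, hk⟩ := pow_eq_one_of_mem hQp ⟨x, hx, rfl⟩
      have h5 := congrArg Subtype.val (mem_Cz.1 hyQ ⟨x, mem_of_pelt hk⟩ ⟨x, hx, rfl⟩)
      exact h5
    obtain ⟨k, hk⟩ := pow_eq_one_of_mem hQp ⟨_, h4, rfl⟩
    exact eq_one_of_pow (k := k) (Subtype.ext hk) hy3

/-- products of two noncommuting transpositions -/
theorem not_prod (h : Loc 3 D) {v : Fi24'} (hv : v ∈ D) (hvp : orderOf v = 3) {a b : Fi24} (ha : a ∈ L) (hb : b ∈ L)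
    (hab : (v : Fi24) = a * b) : False := by
  obtain ⟨d, H, h24⟩ := SO.D.hyp24
  have hvp' : orderOf (v : Fi24) = 3 := by rw [orderOf_coe, hvp]
  have hn : ¬ Commute a b := by
    intro h1
    have h2 : (v : Fi24) ^ 2 = 1 := by
      rw [hab, h1.mul_pow, pow_two, pow_two, R08.FiTwentyFour.sq ha, R08.FiTwentyFour.sq hb, one_mul]
    have h3 := orderOf_dvd_of_pow_eq_one h2
    rw [hvp'] at h3
    norm_num at h3
  obtain ⟨-, k2, k3, ⟨k4⟩, -, ⟨k6⟩, -⟩ := S5499.result H.tt H.prim d H.mem H.h3 H.h2 h24 a b ha hb hn _ _ _ rfl rfl rfl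
  obtain ⟨w, hw, hwp, hvw, hne⟩ := exists_snd h.pgrp h.rk hv hvp
  have hvS : (v : Fi24) ∈ closure ({a, b} : Set Fi24) := by
    rw [hab]
    exact mul_mem (subset_closure (Or.inl rfl)) (subset_closure (Or.inr rfl))
  have hch := Lib.GenFitting.genFitting_normal (G := centralizer ({a, b} : Set Fi24))
  let e := ((generalizedFittingSubgroup (centralizer ({a, b} : Set Fi24))).equivMapOfInjective _
    (subtype_injective _)).symm.trans k6
  have hs0 := H830.TriMain.simple_pomega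
  have hs := e.isSimpleGroup
  have hE : ¬ IsMulCommutative ((generalizedFittingSubgroup (centralizer ({a, b} : Set Fi24))).map
      (centralizer ({a, b} : Set Fi24)).subtype) := E.not_comm_of_card (by
    rw [Nat.card_congr e.toEquiv, H830.TriMain.card_pomega]
    norm_num)
  have hwS : (w : Fi24) ∈ closure ({a, b} : Set Fi24) := by
    refine kill_core (D := D.map (commutator Fi24).subtype) (h.pgrp.map _) ⟨w, hw, rfl⟩ k2 ?_ (map_subtype_le _) ?_ ?_
      hs hE ?_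
    · rw [k3, ← hab]
      exact C1_le_Nz_zpowers _ (mem_C1.2 (congrArg Subtype.val hvw))
    · refine le_Nz ?_
      rintro g hg _ ⟨x, hx, rfl⟩
      exact ⟨_, hch.conj_mem x hx ⟨g, hg⟩, rfl⟩
    · refine le_Nz ?_
      rintro g hg _ ⟨x, hx, rfl⟩
      have h1 : (⟨g, le_commutator_of_simple hs hE hg⟩ : Fi24') ∈ Nz D :=
        h.ti.cent_le hv (ne_one_of_order hvp) (mem_C1.2 (Subtype.ext (k2 _ hvS _ (map_subtype_le _ hg))))
      exact ⟨_, conj_mem h1 hx, rfl⟩
    · intro k hk hkc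
      exact ⟨⟨k, hk⟩, Lib.GenFitting.centralizer_genFitting_le
        (mem_Cz.2 fun x hx => Subtype.ext (mem_Cz.1 hkc x ⟨x, hx, rfl⟩)), rfl⟩
  obtain ⟨-, h2⟩ := exists_pair hvp' (b := (w : Fi24)) (by rw [orderOf_coe, hwp]) (congrArg Subtype.val hvw)
    fun ⟨k, hk⟩ => hne ⟨k, Subtype.ext hk⟩
  have h3 := card_dvd_of_le ((closure_le (closure ({a, b} : Set Fi24)) (k := {(v : Fi24), (w : Fi24)})).2 (by
    rintro x (rfl | rfl)
    · exact hvS
    · exact hwS))
  rw [h2, Nat.card_congr k4.toEquiv, Nat.card_perm, Nat.card_fin] at h3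
  norm_num [Nat.factorial] at h3

/-- the 2-central involutions -/
theorem not_z (h : Sit 3 D) {g : Fi24'} {t : Fi24'} (ht : g * t * g⁻¹ = CTwoTab.FiTF.z0) (hD : D ≤ C1 t) : False := by
  have h1 := E.sit_cj h g
  have h2 : cj g D ≤ C1 CTwoTab.FiTF.z0 := by
    rintro _ ⟨x, hx, rfl⟩
    rw [← ht]
    exact mem_C1.2 ((show Commute t x from mem_C1.1 (hD hx)).map (MulAut.conj g))
  refine false_of_Q h1.loc.pgrp h1.loc.ti le_rfl h1.loc.rk (Q := CTwoTab.FiTF.R0)
    (by rw [CTwoTab.FiTF.R0_card]; norm_num) (le_Nz fun c hc => CTwoTab.FiTF.R0_norm c (h2 hc)) fun a _ ha hc => ?_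
  have h3 : a ∈ CTwoTab.FiTF.R0 := by
    rcases CTwoTab.FiTF.R0_cent a (fun r hr => (mem_Cz.1 hc r hr).symm) with h3 | h3 <;> rw [h3]
    · exact one_mem _
    · exact CTwoTab.FiTF.z0_mem
  have h4 := orderOf_dvd_natCard _ h3
  rw [ha, CTwoTab.FiTF.R0_card] at h4
  norm_num at h4

theorem not_comp (h : Sit 3 D) {K : Subgroup Fi24'} (hK : CompIn 3 D K) : False := by
  obtain ⟨v, hv, hvp, -⟩ := exists_fix h.loc.pgrp h.loc.pgrp h.loc.rk.ne_bot le_normalizer
  have hvp' : orderOf (v : Fi24) = 3 := by rw [orderOf_coe, hvp]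
  have hc := hK.comp_C1 h.loc.ti hv (ne_one_of_order hvp)
  have hd : 3 ∣ Nat.card (K.subgroupOf (C1 v)) := by
    rw [Nat.card_congr (subgroupOfEquivOfLe (hK.le.trans (Cz_le_C1 hv))).toEquiv]
    exact hK.dvd
  by_cases h0 : ∃ d ∈ L, d * (v : Fi24) = v * d
  swap
  · obtain ⟨t, T, ht, -, -, -, -, -, -, hDt⟩ := comp_exists_inv hK
    obtain ⟨g, hg⟩ := LThreeFi24.EmptyTwo.invol hvp (fun d hd h1 => h0 ⟨d, hd, h1⟩) ht (mem_C1.1 (hDt hv))
    exact not_z h (g := g) (Subtype.ext hg) hDt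
  obtain ⟨d, hd1, hd2⟩ := h0
  by_cases h5 : ∃ y : Fi24, orderOf y = 5 ∧ y * v = v * y
  · obtain ⟨y, hy, hyv⟩ := h5
    obtain ⟨t, ht | ht⟩ := LThreeFi24N.cases_of_five hvp' hy hyv
    · obtain ⟨e0, e1, -⟩ := LThreeFi24.SNine.s_gen
      have m0 : LThreeFi24.SNine.s 0 ∈ L := by
        rw [e0]
        exact R08.FiTwentyFour.gen_mem_L .j
      have m1 : LThreeFi24.SNine.s 1 ∈ L := by
        rw [e1]
        exact R08.FiTwentyFour.gen_mem_L .g
      refine not_prod h.loc hv hvp (R08.FiTwentyFour.conj m0 t⁻¹) (R08.FiTwentyFour.conj m1 t⁻¹) ?_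
      rw [conj_mul]
      change _ = t⁻¹ * LThreeFi24.SNine.x1 * t⁻¹⁻¹
      rw [← ht]
      group
    · exact not_noComp hc hd (LThreeFi24N.noComp v ⟨t, ht⟩)
  · let f : C1 v →* C1 (v : Fi24) :=
      ((commutator Fi24).subtype.comp (C1 v).subtype).codRestrict _ fun c =>
        mem_C1.2 (congrArg Subtype.val (mem_C1.1 c.2))
    have hf : Function.Injective f := fun a b hab =>
      Subtype.ext (Subtype.ext (congrArg (fun x : C1 (v : Fi24) => (x : Fi24)) hab))
    have hr : f.range = (commutator Fi24).subgroupOf (C1 (v : Fi24)) := by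
      ext x
      constructor
      · rintro ⟨c, rfl⟩
        exact (c : Fi24').2
      · intro hx
        exact ⟨⟨⟨x, hx⟩, mem_C1.2 (Subtype.ext (mem_C1.1 x.2))⟩, rfl⟩
    refine not_noComp (comp_map_inj f hf (by rw [hr]; infer_instance) hc) (by rwa [card_map_of_injective hf])
      (LThreeFi24N.noComp_of_not_five hvp' hd1 hd2 fun y hy hyv => h5 ⟨y, hy, hyv⟩)

end Fi3

theorem noSit_fi24_3 : NoSit 3 Spor.Fi24' := by
  have := R08.FiTwentyFour.finite_Fi24
  have := Fact.mk Nat.prime_three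
  intro D hD
  rcases hD.tri with ⟨K, hK⟩ | hT
  · exact Fi3.not_comp hD hK
  · exact Fi3.not_caseI hD hT.1

theorem row_fi24_3 : Row.{u} 3 (fun S _ => Spor.IsoFi24' S) := fun _ _ _ ⟨e⟩ => NoSit.congr e noSit_fi24_3

end Cfsg.Agent.TID.SO
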