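import Cfsg.Agent.TID.SO.Red2
import Cfsg.Agent.TID.SO.Asm
import Cfsg.Agent.H143.HT.FiYY
import Cfsg.Agent.H713.HT.FiCx

/-!
# The row `KSporOdd` (helper20, project TID): `Fi24'`, `p = 7`
-/

set_option autoImplicit false
set_option linter.unusedSectionVars false

namespace Cfsg.Agent.TID.SO

open Cfsg Subgroup Cfsg.Agent.TID
open scoped Pointwise

universe u

section gen

variable {G : Type u} [Group G] [Finite G] {p : ℕ} [hp : Fact p.Prime]

/-- a self-centralizing Sylow subgroup -/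
theorem not_full (P : Sylow p G) (hP : ∀ v : G, (∀ r ∈ (P : Subgroup G), v * r = r * v) → v ∈ (P : Subgroup G)) {y : G}
    {r : ℕ} (hr : r.Prime) (hrp : r ≠ p) (hy : orderOf y = r) : ¬ Nat.card P ∣ Nat.card (C1 y) := by
  intro h
  obtain ⟨n, hn⟩ := IsPGroup.iff_card.1 P.isPGroup'
  obtain ⟨R, hR⟩ := Sylow.exists_subgroup_card_pow_prime (G := C1 y) p (hn ▸ h)
  have hR' : Nat.card (R.map (C1 y).subtype) = p ^ n := by rw [card_map_of_injective (subtype_injective _), hR]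
  obtain ⟨Q, hQ⟩ := (IsPGroup.of_card hR').exists_le_sylow
  obtain ⟨g, rfl⟩ := MulAction.exists_smul_eq G P Q
  have h1 : R.map (C1 y).subtype = ((g • P : Sylow p G) : Subgroup G) := by
    refine Subgroup.eq_of_le_of_card_ge hQ ?_
    rw [hR', ← hn, (g • P).card_eq_multiplicity, P.card_eq_multiplicity]
  have h2 : g⁻¹ * y * g ∈ (P : Subgroup G) := by
    refine hP _ fun x hx => ?_
    have h3 : g * x * g⁻¹ ∈ R.map (C1 y).subtype := by
      rw [h1]
      exact ⟨x, hx, rfl⟩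
    have h4 := mem_C1.1 (map_subtype_le _ h3)
    calc g⁻¹ * y * g * x = g⁻¹ * (y * (g * x * g⁻¹)) * g := by group
      _ = x * (g⁻¹ * y * g) := by rw [h4]; group
  have h3 : orderOf (g⁻¹ * y * g) = r := by
    rw [← hy, ← MulEquiv.orderOf_eq (MulAut.conj g⁻¹) y]
    simp
  have h4 := orderOf_dvd_natCard _ h2
  rw [h3, hn] at h4
  exact hrp ((Nat.prime_dvd_prime_iff_eq hr hp.out).1 (hr.dvd_of_dvd_pow h4))

omit hp in
theorem card_C1_conj {a b : G} (h : IsConj a b) : Nat.card (C1 b) = Nat.card (C1 a) := by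
  obtain ⟨g, rfl⟩ := isConj_iff.1 h
  rw [← card_cj g (C1 a)]
  congr 2
  ext x
  rw [mem_cj, mem_C1, mem_C1]
  constructor
  · intro h
    calc a * (g⁻¹ * x * g) = g⁻¹ * (g * a * g⁻¹ * x) * g := by group
      _ = g⁻¹ * x * g * a := by rw [h]; group
  · intro h
    calc g * a * g⁻¹ * x = g * (a * (g⁻¹ * x * g)) * g⁻¹ := by group
      _ = x * (g * a * g⁻¹) := by rw [h]; group

end gen

theorem noSit_fi24_7 : NoSit 7 Spor.Fi24' := by
  have := H468.K6.Fi.finite_fi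
  have : Fact (Nat.Prime 7) := ⟨by norm_num⟩
  intro D hD
  have hG := H713.HT.FiCx.card_F
  obtain ⟨P, z, -, -, hz, hz7, hPz⟩ := central_of_caseI hD.loc (hD.caseI (by rw [hG]; norm_num))
  have h1 : Nat.card (C1 z) = 2058 := by
    have h2 : 7 ^ 3 ∣ Nat.card (C1 z) := PC.dvd ⟨hz7, not_dvd_index hPz⟩ (by norm_num) (by rw [hG]; norm_num)
    rcases H713.HT.FiCent.cl_all hz7 with h | h
    · rw [card_C1_conj h] at h2
      exact absurd h2 H468.K6.Fi.not_dvd_yy
    · rw [card_C1_conj h]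
      exact H713.HT.FiCx.card_cc H143.HT.FiYY.card_yy
  rcases hD.tri with ⟨L, hL⟩ | hT
  · obtain ⟨t, T, -, -, h2, -, -, h4, -⟩ := comp_exists_inv hL
    have h5 := h4.trans (card_dvd_of_le (h2.trans (hL.le.trans (Cz_le_C1 hz))))
    rw [h1] at h5
    norm_num at h5
  · obtain ⟨r, k, y, hr, hr7, hy, -, hk, h2, h3⟩ := hT.num
    have h4 : r ^ k ∣ 2058 := h1 ▸ h2.trans (card_dvd_of_le (inf_le_left.trans (Cz_le_C1 hz)))
    have h5 : r ^ k ∣ 6 := by
      have h8 : (r ^ k).Coprime (7 ^ 3) := Nat.Coprime.pow _ _ ((Nat.coprime_primes hr (by norm_num)).2 hr7)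
      exact h8.dvd_of_dvd_mul_left h4
    have h6 : 1 < r ^ k := Nat.one_lt_pow (by omega) hr.one_lt
    have h7 := Nat.le_of_dvd (by norm_num) h5
    refine not_full H713.HT.FiCx.syl H143.HT.FiYY.cR hr hr7 hy ?_
    rw [H713.HT.FiCx.coe_syl, H468.K6.Fi.datF.card_P]
    refine Nat.Coprime.dvd_of_dvd_mul_left ?_ (h3 3 (by rw [hG]; norm_num))
    generalize r ^ k = m at h6 h7
    interval_cases m <;> norm_num

theorem row_fi24_7 : Row.{u} 7 (fun S _ => Spor.IsoFi24' S) := fun _ _ _ ⟨e⟩ => NoSit.congr e noSit_fi24_7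

end Cfsg.Agent.TID.SO
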