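import Cfsg.Agent.TID.SO.LeechA
import Cfsg.Agent.TID.SO.Asm
import Cfsg.Agent.H898.WkCo1
import Cfsg.Agent.H763.Wk.CoTwoThree
import Cfsg.Agent.H763.Wk.CoTwoFive
import Cfsg.Agent.H945.Wk.Co3
import Cfsg.Agent.H47.Wk.McL
import Cfsg.Agent.H757.WkHS
import Cfsg.Agent.OddHalf.Small.M24Char
import Cfsg.Agent.PreUniqCo.Adapt
import Cfsg.Agent.MFive.JTwo
import Cfsg.Agent.LThreeMB.CoOneFin

/-!
# The row `KSporOdd` (helper20, project TID): `M12`, `M24`, `McL`, `HS`, `Co3`, `Co2`, `Co1`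
-/

set_option autoImplicit false
set_option linter.unusedSectionVars false

namespace Cfsg.Agent.TID.SO

open Cfsg Cfsg.Spor Subgroup Cfsg.Agent.TID Module
open Cfsg.Agent.PreUniqCo Cfsg.Agent.PreUniqCo.Rows

universe u

theorem Fx.noSit {G : Type u} [Group G] [Finite G] (h : Fx G) {p : ℕ} [Fact p.Prime] (hp : p = 3 ∨ p = 5)
    (h2 : ∀ z : G, PC p z → pCore 2 (C1 z) = ⊥) : NoSit p G :=
  noSit_of_odd (fun _ hr h3 h4 => h.not_com hp hr h3 h4) h2

theorem row_m12_3 : Row.{u} 3 (fun S _ => IsoM12 S) := by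
  rintro G _ _ ⟨e⟩
  have := Fact.mk Nat.prime_three
  refine noSit_of_all fun r hr hrp hc => ?_
  by_cases h2 : r = 2
  · subst h2
    obtain ⟨y, hy, hd⟩ := (hc.map e.toMonoidHom e.injective).sq_dvd
    exact H945.Wk.Co3.nine hy hd
  · exact (fx_m12.of_inj e.toMonoidHom e.injective).not_com (Or.inl rfl) hr h2 hrp hc

theorem row_m24_3 : Row.{u} 3 (fun S _ => IsoM24 S) := by
  rintro G _ _ ⟨e⟩
  have := Fact.mk Nat.prime_three
  exact noSit_of_odd' (OddHalf.Small.M24Char.m24 ⟨e⟩) (by norm_num) fun r hr h2 hrp =>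
    (fx_m24.of_inj e.toMonoidHom e.injective).not_com (Or.inl rfl) hr h2 hrp

theorem row_mcl_3 : Row.{u} 3 (fun S _ => IsoMcL S) := by
  rintro G _ _ ⟨e⟩
  have := Fact.mk Nat.prime_three
  exact (fx_mcl.of_inj e.toMonoidHom e.injective).noSit (Or.inl rfl) fun z hz =>
    H47.Wk.McL.core ⟨e⟩ Nat.prime_three (by decide) hz.1 (H47.Wk.McL.three ⟨e⟩ hz.1) (by norm_num)

theorem row_mcl_5 : Row.{u} 5 (fun S _ => IsoMcL S) := by
  rintro G _ _ ⟨e⟩
  have := Fact.mk Nat.prime_five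
  exact (fx_mcl.of_inj e.toMonoidHom e.injective).noSit (Or.inr rfl) fun z hz =>
    H47.Wk.McL.core ⟨e⟩ Nat.prime_five (by decide) hz.1 (H47.Wk.McL.five ⟨e⟩ hz.1) (by norm_num)

theorem row_hs_5 : Row.{u} 5 (fun S _ => IsoHS S) := by
  rintro G _ _ ⟨e⟩
  have := Fact.mk Nat.prime_five
  exact (fx_hs.of_inj e.toMonoidHom e.injective).noSit (Or.inr rfl) fun z hz => H757.WkHS.core_five ⟨e⟩ hz.1

theorem row_co3_3 : Row.{u} 3 (fun S _ => IsoCo3 S) := by
  rintro G _ _ ⟨e⟩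
  have := Fact.mk Nat.prime_three
  exact (fx_co3.of_inj e.toMonoidHom e.injective).noSit (Or.inl rfl) fun z hz =>
    H945.Wk.core_congr (SporRec.Co3.Model.equivCo3.trans e.symm) (fun _ hx => H945.Wk.Co3.core_three hx) z hz.1

theorem row_co3_5 : Row.{u} 5 (fun S _ => IsoCo3 S) := by
  rintro G _ _ ⟨e⟩
  have := Fact.mk Nat.prime_five
  exact (fx_co3.of_inj e.toMonoidHom e.injective).noSit (Or.inr rfl) fun z hz =>
    H945.Wk.core_congr (SporRec.Co3.Model.equivCo3.trans e.symm) (fun _ hx => H945.Wk.Co3.core_five hx) z hz.1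

theorem row_co2_3 : Row.{u} 3 (fun S _ => IsoCo2 S) := by
  rintro G _ _ ⟨e⟩
  have := Fact.mk Nat.prime_three
  have : Finite Co2 := Finite.of_equiv _ e.toEquiv
  exact (fx_co2.of_inj e.toMonoidHom e.injective).noSit (Or.inl rfl) fun z hz =>
    H945.Wk.core_congr e.symm (fun _ hx => H763.Wk.CoTwo.core_three hx) z hz.1

theorem row_co2_5 : Row.{u} 5 (fun S _ => IsoCo2 S) := by
  rintro G _ _ ⟨e⟩
  have := Fact.mk Nat.prime_five
  exact (fx_co2.of_inj e.toMonoidHom e.injective).noSit (Or.inr rfl) fun z hz =>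
    H945.Wk.core_congr e.symm (fun _ hx => H763.Wk.CoTwo.core_five hx) z hz.1

theorem finite_co1 : Finite Co1 := by
  have := finite_co0
  infer_instance

theorem noSit_co1_3 : NoSit 3 Co1 := by
  have := Fact.mk Nat.prime_three
  have := finite_co1
  intro D hD
  refine hD.false_of_odd (fun r y hr h2 h3 hy hDy => ?_) fun z _ hz => H898.WkCo1.three hz.1
  obtain ⟨V, h4, h5, h6⟩ := hD.loc.rk
  obtain ⟨E, y', h7, h8, h9, h10, h11⟩ := lift_pair (by decide) h5 h6 (hr.odd_of_ne_two h2) hy (h4.trans hDy)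
  obtain ⟨x, hx, hx3, hx0⟩ := free_three h7 h8 hr h2 h3 h9 h10
  obtain ⟨S, _, _, _, f, hS, -, hf, hker⟩ := Adapt.factsFree_of LThreeMB.CoOneFin.coOne.suz x hx3 hx0
  exact false_of_quot hD.loc.pgrp hD.loc.ti hD.loc.rk (h4 (h11 x hx)) (order_mk (by norm_num) hx3) hS rfl f hf
    fun c hc _ => hker c hc

theorem noSit_co1_5 : NoSit 5 Co1 := by
  have := Fact.mk Nat.prime_five
  have := finite_co1
  intro D hD
  refine hD.false_of_odd (fun r y hr h2 h3 hy hDy => ?_) fun z _ hz => H898.WkCo1.five hz.1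
  obtain ⟨V, h4, h5, h6⟩ := hD.loc.rk
  obtain ⟨E, y', h7, h8, h9, h10, h11⟩ := lift_pair (by decide) h5 h6 (hr.odd_of_ne_two h2) hy (h4.trans hDy)
  obtain ⟨x, hx, hx3, hx0⟩ := free_five h7 h8 hr h2 h3 h9 h10
  obtain ⟨S, _, _, _, f, hS, -, hf, hker⟩ := Adapt.factsFive_of (fun _ hs hfr => MFive.JTwo.isoJ2 hs hfr) x hx3 hx0
  exact false_of_quot hD.loc.pgrp hD.loc.ti hD.loc.rk (h4 (h11 x hx)) (order_mk (by norm_num) hx3) hS rfl f hf
    fun c hc _ => hker c hc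

theorem row_co1_3 : Row.{u} 3 (fun S _ => IsoCo1 S) := fun _ _ _ ⟨e⟩ => NoSit.congr e noSit_co1_3

theorem row_co1_5 : Row.{u} 5 (fun S _ => IsoCo1 S) := fun _ _ _ ⟨e⟩ => NoSit.congr e noSit_co1_5

end Cfsg.Agent.TID.SO
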