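import Cfsg.Agent.TID.SO.Red2
import Cfsg.Agent.TID.SO.Asm
import Cfsg.Agent.H210.ON3.Cent
import Cfsg.Agent.H108.WkON

/-!
# The row `KSporOdd` (helper20, project TID): the O'Nan group, `p = 7`
-/

set_option autoImplicit false
set_option linter.unusedSectionVars false

namespace Cfsg.Agent.TID.SO

open Cfsg Subgroup Cfsg.Agent.TID

universe u

theorem pCore_two_of_odd {K : Type u} [Group K] [Finite K] (h : ¬ 2 ∣ Nat.card K) : pCore 2 K = ⊥ := by
  have := Fact.mk Nat.prime_two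
  obtain ⟨k, hk⟩ := IsPGroup.iff_card.1 (Lib.Cores.pCore_isPGroup (G := K) 2)
  have h1 := card_subgroup_dvd_card (pCore 2 K)
  rw [hk] at h1
  rcases Nat.eq_zero_or_pos k with rfl | h2
  · exact card_eq_one.1 hk
  · exact absurd ((dvd_pow_self 2 h2.ne').trans h1) h

theorem noSit_on_7 : NoSit 7 Spor.ON := by
  have := KFacts.ON.Cent.finite_ON
  have : Fact (Nat.Prime 7) := ⟨by norm_num⟩
  refine noSit_of_odd (fun r hr h2 h7 hc => ?_) fun z hz => ?_
  · obtain ⟨v, hv, hd⟩ := hc.cent hr h7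
    obtain ⟨a, d, -, h1⟩ := H210.ON3.shape7 hv
    rw [show Nat.card (C1 v) = _ from h1] at hd
    rcases (Nat.Prime.dvd_mul hr).1 (Dvd.dvd.trans (dvd_mul_left r _) hd) with h | h
    · exact h2 ((Nat.prime_dvd_prime_iff_eq hr Nat.prime_two).1 (hr.dvd_of_dvd_pow h))
    · exact h7 ((Nat.prime_dvd_prime_iff_eq hr (by norm_num)).1 (hr.dvd_of_dvd_pow h))
  · by_cases h : 2 ∣ Nat.card (C1 z)
    · exact H108.WkON.core_seven hz.1 h
    · exact pCore_two_of_odd h

theorem row_on_7 : Row.{u} 7 (fun S _ => Spor.IsoON S) := fun _ _ _ ⟨e⟩ => NoSit.congr e noSit_on_7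

end Cfsg.Agent.TID.SO
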