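import Cfsg.Agent.TID.Basic
import Cfsg.Agent.S0144
import Cfsg.Agent.SylowL5.TypeAGen

/-!
# The row `KSporOdd` (helper20, project TID): reduction and criteria

`Sit p D` : `D` is a radical TI `p`-subgroup of rank at least two, not a Sylow subgroup, and `C(D)` is not a `p`-group.
`NoSit p G` : there is no such `D`.

* `NoSit.congr`, `noSit_of_not_cube`, `out_of_noSit`;
* `Loc.exists_snd`, `Loc.exists_V` (through a given element), `Loc.false_of_char` (an overgroup of characteristic `r ≠ p`),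
  `Loc.false_of_charTwo`, `Loc.false_of_quot` (`C(v) / ⟨v⟩` simple), `Sit.not_char`, `Sit.not_over`, `Sit.not_Q`;
* `Sit.tri` : a component (`CompIn`) or `Two`;
* `CompIn.exists_odd`, `CompIn.exists_inv`; `Two.central`, `Two.elem`, `Two.num`.
-/

set_option autoImplicit false
set_option linter.unusedSectionVars false
set_option maxHeartbeats 400000

namespace Cfsg.Agent.TID.SO

open Cfsg Subgroup Cfsg.Agent.TID
open Cfsg.Agent.SignalizersComponents
open scoped Pointwise commutatorElement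

universe u v

/-- the situation which has to be excluded -/
structure Sit (p : ℕ) {G : Type u} [Group G] (D : Subgroup G) : Prop where
  loc : Loc p D
  ncen : ¬ IsPGroup p (Cz D)
  nsyl : p ∣ D.index

/-- the situation does not occur -/
def NoSit (p : ℕ) (G : Type u) [Group G] : Prop := ∀ D : Subgroup G, ¬ Sit p D

section transport

variable {G : Type u} [Group G] {H : Type v} [Group H] {p : ℕ} {D : Subgroup G}

theorem mem_map_e (e : G ≃* H) {D : Subgroup G} {x : H} : x ∈ D.map e.toMonoidHom ↔ e.symm x ∈ D := by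
  constructor
  · rintro ⟨y, hy, rfl⟩
    simpa using hy
  · intro h
    exact ⟨_, h, by simp⟩

theorem mem_Nz_map (e : G ≃* H) {D : Subgroup G} {x : H} : x ∈ Nz (D.map e.toMonoidHom) ↔ e.symm x ∈ Nz D := by
  rw [mem_normalizer_iff, mem_normalizer_iff]
  constructor
  · intro h y
    have h1 := h (e y)
    rw [mem_map_e, mem_map_e, map_mul, map_mul, map_inv, e.symm_apply_apply] at h1
    exact h1
  · intro h y
    rw [mem_map_e, mem_map_e, map_mul, map_mul, map_inv]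
    exact h _

theorem mem_Cz_map (e : G ≃* H) {D : Subgroup G} {x : H} : x ∈ Cz (D.map e.toMonoidHom) ↔ e.symm x ∈ Cz D := by
  rw [mem_Cz, mem_Cz]
  constructor
  · intro h y hy
    apply e.injective
    rw [map_mul, map_mul, e.apply_symm_apply]
    exact h _ ⟨y, hy, rfl⟩
  · rintro h _ ⟨y, hy, rfl⟩
    apply e.symm.injective
    rw [map_mul, map_mul]
    simpa using h y hy

theorem rk2_map (h : Rk2 p D) {f : G →* H} (hf : Function.Injective f) : Rk2 p (D.map f) := by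
  obtain ⟨V, h1, h2, h3⟩ := h
  refine ⟨V.map f, map_mono h1, ⟨⟨⟨?_⟩⟩, ?_⟩, by rw [card_map_of_injective hf, h3]⟩
  · rintro ⟨_, a, ha, rfl⟩ ⟨_, b, hb, rfl⟩
    refine Subtype.ext ?_
    change f a * f b = f b * f a
    rw [← map_mul, ← map_mul, show a * b = b * a from congrArg Subtype.val (h2.1.1.1 ⟨a, ha⟩ ⟨b, hb⟩)]
  · rintro _ ⟨a, ha, rfl⟩
    rw [← map_pow, h2.2 a ha, map_one]

theorem ti_map (e : G ≃* H) (h : TI D) : TI (D.map e.toMonoidHom) := by
  refine ti_of_mem fun x g hx hx1 hg => (mem_Nz_map e).2 ?_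
  refine h.mem ((mem_map_e e).1 hx) (fun h1 => hx1 ?_) ?_
  · rw [← e.apply_symm_apply x, h1, map_one]
  · have := (mem_map_e e).1 hg
    rwa [map_mul, map_mul, map_inv] at this

theorem loc_map (e : G ≃* H) (h : Loc p D) : Loc p (D.map e.toMonoidHom) := by
  refine ⟨h.pgrp.map _, ti_map e h.ti, rk2_map h.rk e.injective, fun Q hQ hn => ?_⟩
  have h1 : Q.map e.symm.toMonoidHom ≤ D := by
    refine h.rad _ (hQ.map _) fun g hg => (mem_Nz_map e.symm).2 (hn ((mem_Nz_map e).2 ?_))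
    simpa using hg
  intro x hx
  exact (mem_map_e e).2 (h1 ⟨x, hx, rfl⟩)

theorem Sit.map (e : G ≃* H) (h : Sit p D) : Sit p (D.map e.toMonoidHom) := by
  refine ⟨loc_map e h.loc, fun h1 => h.ncen ?_, ?_⟩
  · have h2 : Cz D = (Cz (D.map e.toMonoidHom)).map e.symm.toMonoidHom := by
      ext x
      rw [mem_map_e, mem_Cz_map]
      simp
    rw [h2]
    exact h1.map _
  · rw [index_map_of_bijective e.bijective]
    exact h.nsyl

theorem NoSit.congr (e : G ≃* H) (h : NoSit p H) : NoSit p G := fun _ hD => h _ (hD.map e)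

end transport

variable {G : Type u} [Group G] [Finite G] {p : ℕ} [hp : Fact p.Prime] {D : Subgroup G}

theorem Sit.cube (h : Sit p D) : p ^ 3 ∣ Nat.card G := by
  rw [← D.index_mul_card, show p ^ 3 = p * p ^ 2 by ring]
  exact Nat.mul_dvd_mul h.nsyl h.loc.rk.sq_dvd

theorem noSit_of_not_cube (h : ¬ p ^ 3 ∣ Nat.card G) : NoSit p G := fun _ hD => h hD.cube

/-! ### from the almost simple group to its socle -/

theorem rad_sub {S : Subgroup G} [S.Normal] (h : Loc p D) (hDS : D ≤ S) : Rad p (D.subgroupOf S) := by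
  intro Q hQ hn
  set Q' : Subgroup G := Q.map S.subtype with hQ'
  have hQp : IsPGroup p Q' := hQ.map _
  have hK : S ⊓ Nz D ≤ Nz Q' := by
    refine le_Nz ?_
    rintro g hg _ ⟨x, hx, rfl⟩
    have h1 : (⟨g, hg.1⟩ : S) ∈ Nz (D.subgroupOf S) := by
      refine le_Nz (H := zpowers (⟨g, hg.1⟩ : S)) (fun c hc y hy => ?_) (mem_zpowers _)
      have h2 : (c : G) ∈ Nz D := by
        obtain ⟨k, rfl⟩ := mem_zpowers_iff.1 hc
        exact (Nz D).zpow_mem hg.2 k
      exact conj_mem (D := D) h2 hy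
    exact ⟨_, conj_mem (hn h1) hx, rfl⟩
  have h0 : Q' ⊓ Nz D ≤ D := by
    refine h.le_of_normal (K := S ⊓ Nz D) (le_Nz_inf (le_Nz_normal _ S) le_normalizer)
      (inf_le_inf_right _ (map_subtype_le Q)) (le_Nz_inf hK (inf_le_right.trans le_normalizer)) (hQp.to_le inf_le_left)
  have hDQ : D ≤ Nz Q' := (le_inf hDS le_normalizer).trans hK
  have hR : IsPGroup p ↥(Q' ⊔ D) := hQp.to_sup_of_normal_left' h.pgrp hDQ
  have h1 : Q' ≤ D := by
    by_contra hcon
    have hnil := hR.isNilpotent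
    have hlt : D.subgroupOf (Q' ⊔ D) < ⊤ := by
      rw [lt_top_iff_ne_top]
      intro h2
      exact hcon (le_sup_left.trans (subgroupOf_eq_top.1 h2))
    obtain ⟨g, hg1, hg2⟩ := SetLike.exists_of_lt (Group.normalizerCondition_of_isNilpotent _ hlt)
    have hgN : (g : G) ∈ Nz D := by
      rw [mem_normalizer_iff]
      intro x
      constructor
      · intro hx
        exact (mem_normalizer_iff.1 hg1 ⟨x, mem_sup_right hx⟩).1 hx
      · intro hx
        have h3 : x ∈ Q' ⊔ D := by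
          rw [show x = (g : G)⁻¹ * (g * x * (g : G)⁻¹) * g by group]
          exact mul_mem (mul_mem (inv_mem g.2) (mem_sup_right hx)) g.2
        exact (mem_normalizer_iff.1 hg1 ⟨x, h3⟩).2 hx
    have h3 : (g : G) ∈ ((Q' ⊔ D : Subgroup G) : Set G) := g.2
    rw [coe_mul_of_right_le_normalizer_left Q' D hDQ] at h3
    obtain ⟨q, hq, d, hd, hqd⟩ := h3
    have h4 : q ∈ D := by
      refine h0 ⟨hq, ?_⟩
      have h5 : q = g * d⁻¹ := by rw [← hqd]; group
      rw [h5]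
      exact (Nz D).mul_mem hgN ((Nz D).inv_mem (le_normalizer hd))
    apply hg2
    change (g : G) ∈ D
    rw [← hqd]
    exact mul_mem h4 hd
  intro x hx
  exact h1 ⟨x, hx, rfl⟩

omit [Finite G] hp in
theorem ti_sub (h : TI D) (S : Subgroup G) : TI (D.subgroupOf S) := by
  refine ti_of_mem fun x g hx hx1 hg => ?_
  have h1 : (g : G) ∈ Nz D := h.mem (x := (x : G)) hx (fun h2 => hx1 (Subtype.ext h2)) hg
  rw [mem_normalizer_iff]
  intro y
  exact mem_normalizer_iff.1 h1 (y : G)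

omit [Finite G] hp in
theorem rk2_sub {S : Subgroup G} (h : Rk2 p D) (hDS : D ≤ S) : Rk2 p (D.subgroupOf S) := by
  obtain ⟨V, h1, h2, h3⟩ := h
  refine ⟨V.subgroupOf S, fun _ hx => h1 hx, ⟨⟨⟨fun a b => Subtype.ext (Subtype.ext ?_)⟩⟩, fun a ha => Subtype.ext ?_⟩, ?_⟩
  · exact congrArg (fun t : V => (t : G)) (h2.1.1.1 ⟨_, a.2⟩ ⟨_, b.2⟩)
  · exact h2.2 _ ha
  · rw [Nat.card_congr (subgroupOfEquivOfLe (h1.trans hDS)).toEquiv, h3]

theorem loc_sub {S : Subgroup G} [S.Normal] (h : Loc p D) (hDS : D ≤ S) : Loc p (D.subgroupOf S) :=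
  ⟨h.pgrp.comap_subtype, ti_sub h.ti S, rk2_sub h.rk hDS, rad_sub h hDS⟩

/-- **The reduction.** -/
theorem out_of_noSit {S : Subgroup G} (h : AS p S D) (hDS : D ≤ S) (hS : NoSit p S) : Out p S D := by
  have := h.soc.normal
  refine ⟨by rw [inf_eq_left.2 hDS]; exact h.loc.rk.ne_bot, ?_⟩
  by_cases h1 : p ∣ D.relIndex S
  swap
  · exact Or.inr (Or.inl h1)
  left
  by_contra h2
  refine hS (D.subgroupOf S) ⟨loc_sub h.loc hDS, fun h3 => h2 ?_, h1⟩
  have h4 : S ⊓ Cz D ≤ (Cz (D.subgroupOf S)).map S.subtype := fun x hx =>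
    ⟨⟨x, hx.1⟩, mem_Cz.2 fun y hy => Subtype.ext (mem_Cz.1 hx.2 _ hy), rfl⟩
  exact (h3.map _).to_le h4

/-- `D ≤ S` if the index of the inner automorphisms is prime to `p` -/
theorem le_of_index {S : Subgroup G} (h : AS p S D)
    (hi : ¬ p ∣ (MulAut.conj : S →* MulAut S).range.index) : D ≤ S := by
  have hn := h.soc.normal
  intro d hd
  obtain ⟨k, hk⟩ := pow_eq_one_of_mem h.loc.pgrp hd
  have hfin : Finite (MulAut S) := Finite.of_injective (fun a : MulAut S => (a : S → S)) DFunLike.coe_injective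
  have hN : (MulAut.conj : S →* MulAut S).range.Normal := by
    constructor
    rintro _ ⟨a, rfl⟩ α
    refine ⟨α a, ?_⟩
    ext b
    change ((α a * b * (α a)⁻¹ : S) : G) = (α (a * α.symm b * a⁻¹) : S)
    rw [map_mul, map_mul, map_inv, MulEquiv.apply_symm_apply]
  let f : G →* MulAut S ⧸ (MulAut.conj : S →* MulAut S).range := (QuotientGroup.mk' _).comp MulAut.conjNormal
  have h1 : f d = 1 := by
    refine eq_one_of_pow (p := p) (k := k) (by rw [← map_pow, hk, map_one]) fun h2 => hi ?_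
    exact h2.trans (orderOf_dvd_natCard _)
  obtain ⟨s, hs⟩ : (MulAut.conjNormal d : MulAut S) ∈ (MulAut.conj : S →* MulAut S).range :=
    (QuotientGroup.eq_one_iff _).1 h1
  have h2 : (s : G)⁻¹ * d ∈ Cz S := by
    refine mem_Cz.2 fun x hx => ?_
    have h3 : (s : G) * x * (s : G)⁻¹ = d * x * d⁻¹ := congrArg (fun a : MulAut S => ((a ⟨x, hx⟩ : S) : G)) hs
    calc x * ((s : G)⁻¹ * d) = (s : G)⁻¹ * ((s : G) * x * (s : G)⁻¹) * d := by group
      _ = (s : G)⁻¹ * d * x := by rw [h3]; group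
  rw [show Cz S = ⊥ from h.soc.cent, mem_bot, inv_mul_eq_one] at h2
  rw [← h2]
  exact s.2

/-! ### subgroups of order `p ^ 2` -/

theorem exists_pair {a b : G} (ha : orderOf a = p) (hb : orderOf b = p) (hab : a * b = b * a) (hne : b ∉ zpowers a) :
    IsElementaryAbelian p (closure ({a, b} : Set G)) ∧ Nat.card (closure ({a, b} : Set G)) = p ^ 2 := by
  have hcomm : ∀ x ∈ ({a, b} : Set G), ∀ y ∈ ({a, b} : Set G), x * y = y * x := by
    rintro x (rfl | rfl) y (rfl | rfl)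
    · rfl
    · exact hab
    · exact hab.symm
    · rfl
  have hc : IsMulCommutative (closure ({a, b} : Set G)) := Subgroup.isMulCommutative_closure hcomm
  have hpow : ∀ x ∈ closure ({a, b} : Set G), x ^ p = 1 := by
    intro x hx
    induction hx using closure_induction with
    | mem x hx =>
      rcases hx with rfl | rfl
      · rw [← ha]; exact pow_orderOf_eq_one _
      · rw [← hb]; exact pow_orderOf_eq_one _
    | one => exact one_pow _
    | mul x y hx hy h1 h2 =>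
      have h3 : Commute x y := congrArg Subtype.val
        (hc.is_comm.comm (⟨x, hx⟩ : closure ({a, b} : Set G)) ⟨y, hy⟩)
      rw [h3.mul_pow, h1, h2, one_mul]
    | inv x hx h1 => rw [inv_pow, h1, inv_one]
  refine ⟨⟨hc, hpow⟩, ?_⟩
  have hpg : IsPGroup p (closure ({a, b} : Set G)) := fun x => ⟨1, by
    rw [pow_one]
    exact Subtype.ext (hpow x x.2)⟩
  obtain ⟨n, hn⟩ := (IsPGroup.iff_card (p := p)).1 hpg
  have h2 : 2 ≤ n := by
    by_contra hlt
    have h1 : Nat.card (closure ({a, b} : Set G)) ≤ Nat.card (zpowers a) := by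
      rw [hn, Nat.card_zpowers, ha]
      calc p ^ n ≤ p ^ 1 := Nat.pow_le_pow_right hp.out.pos (by omega)
        _ = p := pow_one p
    have h2 : zpowers a ≤ closure ({a, b} : Set G) := by
      rw [zpowers_le]
      exact Subgroup.subset_closure (Or.inl rfl)
    apply hne
    rw [Subgroup.eq_of_le_of_card_ge h2 h1]
    exact Subgroup.subset_closure (Or.inr rfl)
  have h3 : Nat.card (closure ({a, b} : Set G)) ≤ p ^ 2 := by
    have ha' : zpowers a ≤ closure ({a, b} : Set G) := zpowers_le.2 (Subgroup.subset_closure (Or.inl rfl))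
    have hb' : zpowers b ≤ closure ({a, b} : Set G) := zpowers_le.2 (Subgroup.subset_closure (Or.inr rfl))
    let f : zpowers a × zpowers b → closure ({a, b} : Set G) := fun x =>
      ⟨x.1 * x.2, mul_mem (ha' x.1.2) (hb' x.2.2)⟩
    have hf : Function.Surjective f := by
      rintro ⟨x, hx⟩
      suffices h : ∃ i j : ℤ, a ^ i * b ^ j = x by
        obtain ⟨i, j, h⟩ := h
        exact ⟨⟨⟨a ^ i, i, rfl⟩, ⟨b ^ j, j, rfl⟩⟩, Subtype.ext h⟩
      have hcm : Commute a b := hab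
      induction hx using closure_induction with
      | mem x hx =>
        rcases hx with rfl | rfl
        · exact ⟨1, 0, by simp⟩
        · exact ⟨0, 1, by simp⟩
      | one => exact ⟨0, 0, by simp⟩
      | mul x y _ _ h1 h2 =>
        obtain ⟨i, j, rfl⟩ := h1
        obtain ⟨k, l, rfl⟩ := h2
        refine ⟨i + k, j + l, ?_⟩
        rw [zpow_add, zpow_add, mul_assoc, mul_assoc, ← mul_assoc (a ^ k), (hcm.zpow_zpow k j).eq, mul_assoc]
      | inv x _ h1 =>
        obtain ⟨i, j, rfl⟩ := h1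
        refine ⟨-i, -j, ?_⟩
        rw [mul_inv_rev, ← zpow_neg, ← zpow_neg, (hcm.zpow_zpow (-i) (-j)).eq]
    have h4 := Nat.card_le_card_of_surjective f hf
    rwa [Nat.card_prod, Nat.card_zpowers, Nat.card_zpowers, ha, hb, ← pow_two] at h4
  rw [hn] at h3 ⊢
  have h4 := (Nat.pow_le_pow_iff_right hp.out.one_lt).1 h3
  rw [le_antisymm h4 h2]

/-- an element of order `p` of `D` commuting with `v` which is not a power of `v` -/
theorem exists_snd (hD : IsPGroup p D) (hr : Rk2 p D) {v : G} (hv : v ∈ D) (hvp : orderOf v = p) :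
    ∃ w ∈ D, orderOf w = p ∧ v * w = w * v ∧ w ∉ zpowers v := by
  obtain ⟨z, hz, hzp, hzc⟩ := exists_fix hD hD hr.ne_bot le_normalizer
  by_cases h1 : z ∈ zpowers v
  swap
  · exact ⟨z, hz, hzp, (mem_C1.1 (hzc hv)).symm, h1⟩
  obtain ⟨V, h2, h3, h4⟩ := hr
  have hvz : v ∈ zpowers z := by
    have h5 : zpowers z = zpowers v :=
      Subgroup.eq_of_le_of_card_ge (zpowers_le.2 h1) (by rw [Nat.card_zpowers, Nat.card_zpowers, hzp, hvp])
    rw [h5]
    exact mem_zpowers v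
  have h5 : ¬ V ≤ zpowers v := by
    intro h6
    have h7 := Nat.le_of_dvd Nat.card_pos (card_dvd_of_le h6)
    rw [h4, Nat.card_zpowers, hvp] at h7
    have := hp.out.one_lt
    nlinarith
  obtain ⟨w, hw, hwv⟩ := SetLike.not_le_iff_exists.1 h5
  refine ⟨w, h2 hw, el_order h3 hw (fun h6 => hwv (h6 ▸ one_mem _)), ?_, hwv⟩
  obtain ⟨k, rfl⟩ := mem_zpowers_iff.1 hvz
  exact (Commute.zpow_left (mem_C1.1 (hzc (h2 hw))) k).eq

/-- a subgroup of order `p ^ 2` through a given element -/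
theorem exists_V (hD : IsPGroup p D) (hr : Rk2 p D) {v : G} (hv : v ∈ D) (hvp : orderOf v = p) :
    ∃ V : Subgroup G, V ≤ D ∧ IsElementaryAbelian p V ∧ Nat.card V = p ^ 2 ∧ v ∈ V := by
  obtain ⟨w, hw, hwp, hc, hne⟩ := exists_snd hD hr hv hvp
  obtain ⟨h1, h2⟩ := exists_pair hvp hwp hc hne
  refine ⟨_, (closure_le _).2 ?_, h1, h2, Subgroup.subset_closure (Or.inl rfl)⟩
  rintro x (rfl | rfl)
  · exact hv
  · exact hw

theorem ne_one_of_order {v : G} (hvp : orderOf v = p) : v ≠ 1 := by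
  rintro rfl
  rw [orderOf_one] at hvp
  exact hp.out.ne_one hvp.symm

/-! ### criteria which only use the TI property -/

/-- `A` centralizes no `r`-subgroup `Q` normalized by `A` with `C(Q) ∩ A = 1` -/
theorem false_of_Q (hD : IsPGroup p D) (hT : TI D) {A Q : Subgroup G} (hAD : A ≤ D) (hA : Rk2 p A)
    (hQ : ¬ p ∣ Nat.card Q) (hn : A ≤ Nz Q) (hc : ∀ a ∈ A, orderOf a = p → a ∉ Cz Q) : False := by
  have h1 := le_Cz_comm (hT.cent_of_coprime hD hAD hA hQ hn)
  obtain ⟨V, h2, h3, h4⟩ := hA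
  obtain ⟨a, ha, ha1⟩ := V.bot_or_exists_ne_one.resolve_left (el_ne_bot h4)
  exact hc a (h2 ha) (el_order h3 ha ha1) (h1 (h2 ha))

theorem not_dvd_of_pgroup {r : ℕ} (hr : r.Prime) (hrp : r ≠ p) {Q : Subgroup G} (hQ : IsPGroup r Q) :
    ¬ p ∣ Nat.card Q := by
  have := Fact.mk hr
  obtain ⟨k, hk⟩ := IsPGroup.iff_card.1 hQ
  rw [hk]
  intro h
  exact hrp ((Nat.prime_dvd_prime_iff_eq hp.out hr).1 (hp.out.dvd_of_dvd_pow h)).symm

/-- an overgroup of characteristic `r ≠ p` -/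
theorem false_of_char (hD : IsPGroup p D) (hT : TI D) {A H : Subgroup G} (hAD : A ≤ D) (hA : Rk2 p A) (hAH : A ≤ H)
    {r : ℕ} (hr : r.Prime) (hrp : r ≠ p) (hc : centralizer (pCore r H : Set H) ≤ pCore r H) : False := by
  have := Fact.mk hr
  have hch := Lib.Cores.pCore_characteristic (G := H) r
  have hQ : IsPGroup r ((pCore r H).map H.subtype) := (Lib.Cores.pCore_isPGroup r).map _
  refine false_of_Q hD hT hAD hA (not_dvd_of_pgroup hr hrp hQ) (hAH.trans (le_normalizer.trans (Nz_le_Nz_char _)))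
    fun a ha hap hac => ?_
  have h1 : (⟨a, hAH ha⟩ : H) ∈ pCore r H :=
    hc (mem_Cz.2 fun q hq => Subtype.ext (mem_Cz.1 hac q ⟨q, hq, rfl⟩))
  exact not_dvd_of_pgroup (p := p) hr hrp hQ (hap ▸ orderOf_dvd_natCard _ (show a ∈ _ from ⟨_, h1, rfl⟩))

theorem C1_le_Nz_zpowers (t : G) : C1 t ≤ Nz (zpowers t) := by
  refine le_Nz fun g hg x hx => ?_
  obtain ⟨k, rfl⟩ := mem_zpowers_iff.1 hx
  rw [← ((Commute.zpow_left (mem_C1.1 hg) k).eq), mul_inv_cancel_right]
  exact hx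

/-- groups of characteristic 2 type -/
theorem false_of_charTwo (hG : IsCharacteristicTwoType G) (hp2 : p ≠ 2) (hD : IsPGroup p D) (hT : TI D)
    {A : Subgroup G} (hAD : A ≤ D) (hA : Rk2 p A) {t : G} (ht : orderOf t = 2) (hAt : A ≤ C1 t) : False := by
  have := Fact.mk Nat.prime_two
  refine false_of_char hD hT hAD hA (hAt.trans (C1_le_Nz_zpowers t)) Nat.prime_two hp2.symm
    (hG.2 _ (IsPGroup.of_card (n := 1) (by rw [Nat.card_zpowers, ht, pow_one])) ?_)
  rw [Ne, zpowers_eq_bot]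
  exact ne_one_of_order ht

/-- `D ∩ H` is a normal `p`-subgroup of `H ≤ N(D)`: its image in a nonabelian simple quotient is trivial -/
theorem map_eq_one (hD : IsPGroup p D) {H : Subgroup G} (hH : H ≤ Nz D) {S : Type v} [Group S] [Finite S]
    [IsSimpleGroup S] (hS : ¬ IsMulCommutative S) (f : H →* S) (hf : Function.Surjective f) {x : H} (hx : (x : G) ∈ D) :
    f x = 1 := by
  have h1 : ((D.subgroupOf H).map f).Normal := (normal_subgroupOf_of_le_normalizer hH).map f hf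
  have h2 : IsPGroup p ((D.subgroupOf H).map f) := hD.comap_subtype.map f
  rcases h1.eq_bot_or_eq_top with h3 | h3
  · have h4 : f x ∈ (D.subgroupOf H).map f := ⟨x, hx, rfl⟩
    rwa [h3, mem_bot] at h4
  · exfalso
    rw [h3] at h2
    have h4 : IsPGroup p S := h2.of_equiv topEquiv
    have h5 := IsPGroup.center_nontrivial h4
    rcases (inferInstance : (center S).Normal).eq_bot_or_eq_top with h6 | h6
    · exact absurd h6 ((nontrivial_iff_ne_bot _).1 h5)
    · exact hS ⟨⟨fun a b => mem_center_iff.1 (h6 ▸ mem_top b) a⟩⟩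

/-- `C(v)` modulo a subgroup without further elements of order `p` is simple -/
theorem false_of_quot (hD : IsPGroup p D) (hT : TI D) (hr : Rk2 p D) {v : G} (hv : v ∈ D) (hvp : orderOf v = p)
    {S : Type v} [Group S] [Finite S] [IsSimpleGroup S] (hS : ¬ IsMulCommutative S) {C : Subgroup G} (hC : C = C1 v)
    (f : C →* S) (hf : Function.Surjective f) (hker : ∀ c, f c = 1 → orderOf (c : G) = p → (c : G) ∈ zpowers v) :
    False := by
  subst hC
  obtain ⟨w, hw, hwp, hc, hne⟩ := exists_snd hD hr hv hvp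
  exact hne (hker ⟨w, mem_C1.2 hc⟩ (map_eq_one hD (hT.cent_le hv (ne_one_of_order hvp)) hS f hf hw) hwp)

/-- all elements of order `p` of `O_p(C(v))` are powers of `v` -/
theorem false_of_core (hD : IsPGroup p D) (hT : TI D) (hr : Rk2 p D) {v : G} (hv : v ∈ D) (hvp : orderOf v = p)
    (h : ∀ c ∈ pCore p (C1 v), orderOf (c : G) = p → (c : G) ∈ zpowers v) : False := by
  obtain ⟨w, hw, hwp, hc, hne⟩ := exists_snd hD hr hv hvp
  refine hne (h ⟨w, mem_C1.2 hc⟩ ?_ hwp)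
  exact Lib.Cores.le_pCore (N := D.subgroupOf (C1 v))
    (normal_subgroupOf_of_le_normalizer (hT.cent_le hv (ne_one_of_order hvp))) hD.comap_subtype hw

/-! ### characteristic `p` -/

theorem Sit.not_Q (h : Sit p D) {Q : Subgroup G} (hQ : IsPGroup p Q) (hQN : Q ≤ Nz D) (hn : Cz D ≤ Nz Q)
    (hc : ∀ y ∈ Cz D, y ∈ Cz Q → ¬ p ∣ orderOf y → y = 1) : False := by
  have h1 : Q ⊓ Cz D ≤ D :=
    h.loc.le_of_normal (Nz_le_Nz_Cz D) inf_le_right (le_Nz_inf hn le_normalizer) (hQ.to_le inf_le_left)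
  refine h.ncen (isPGroup_of_reg fun y hy hyp => hc y hy (mem_Cz.2 fun q hq => ?_) hyp)
  have h2 : ⁅q, y⁆ ∈ Q ⊓ Cz D := by
    rw [commutatorElement_def]
    refine mem_inf.2 ⟨?_, mul_mem (conj_mem (Nz_le_Nz_Cz D (hQN hq)) hy) (inv_mem hy)⟩
    rw [show q * y * q⁻¹ * y⁻¹ = q * (y * q⁻¹ * y⁻¹) by group]
    exact mul_mem hq (conj_mem (hn hy) (inv_mem hq))
  have h3 : (orderOf y).Coprime (Nat.card Q) := by
    obtain ⟨k, hk⟩ := IsPGroup.iff_card.1 hQ
    rw [hk]
    exact Nat.Coprime.pow_right _ ((Nat.Prime.coprime_iff_not_dvd hp.out).2 hyp).symm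
  exact Lib.CoprimeStab.commute_of_commutator_commute h3 h2.1 (mem_Cz.1 hy _ (h1 h2))

theorem Sit.not_over (h : Sit p D) {H : Subgroup G} (h1 : Cz D ≤ H) (h2 : H ≤ Nz D)
    (hc : centralizer (pCore p H : Set H) ≤ pCore p H) : False := by
  have hch := Lib.Cores.pCore_characteristic (G := H) p
  refine h.not_Q (Q := (pCore p H).map H.subtype) ((Lib.Cores.pCore_isPGroup p).map _)
    ((map_subtype_le _).trans h2) (h1.trans (le_normalizer.trans (Nz_le_Nz_char _))) fun y hy hyQ hyp => ?_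
  have h3 : (⟨y, h1 hy⟩ : H) ∈ pCore p H :=
    hc (mem_Cz.2 fun q hq => Subtype.ext (mem_Cz.1 hyQ q ⟨q, hq, rfl⟩))
  obtain ⟨k, hk⟩ := pow_eq_one_of_mem (Lib.Cores.pCore_isPGroup p) h3
  exact eq_one_of_pow (congrArg Subtype.val hk) hyp

/-- `C(v)` is not of characteristic `p` -/
theorem Sit.not_char (h : Sit p D) {v : G} (hv : v ∈ D) (hv1 : v ≠ 1)
    (hc : centralizer (pCore p (C1 v) : Set (C1 v)) ≤ pCore p (C1 v)) : False :=
  h.not_over (Cz_le_C1 hv) (h.loc.ti.cent_le hv hv1) hc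

/-- `N(Z)` is not of characteristic `p` for `1 ≠ Z ≤ D` -/
theorem Sit.not_char_norm (h : Sit p D) {Z : Subgroup G} (hZ : Z ≤ D) (hZ1 : Z ≠ ⊥)
    (hc : centralizer (pCore p (Nz Z) : Set (Nz Z)) ≤ pCore p (Nz Z)) : False :=
  h.not_over ((centralizer_le hZ).trans (centralizer_le_normalizer _)) (h.loc.ti.norm_le hZ hZ1) hc

/-- an element of prime order `r ≠ p` centralizing `D` -/
theorem Sit.exists_prime (h : Sit p D) : ∃ (r : ℕ) (y : G), r.Prime ∧ r ≠ p ∧ orderOf y = r ∧ D ≤ C1 y := by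
  by_contra hcon
  push Not at hcon
  refine h.ncen (isPGroup_of_reg fun y hy hyp => ?_)
  by_contra hy1
  have h1 : orderOf y ≠ 1 := fun h => hy1 (orderOf_eq_one_iff.1 h)
  have h2 := orderOf_pow_orderOf_div (orderOf_pos y).ne' (Nat.minFac_dvd (orderOf y))
  refine hcon _ _ (Nat.minFac_prime h1) (fun h => hyp (h ▸ Nat.minFac_dvd _)) h2 fun d hd => ?_
  exact mem_C1.2 (mem_Cz.1 (pow_mem hy _) d hd).symm

/-! ### the two cases -/

/-- the second case: a Sylow subgroup normalizes `D`, and `N(D)` normalizes a nontrivial `p'`-subgroup of `C(D)` -/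
def Two (p : ℕ) (D : Subgroup G) : Prop :=
  CaseI p D ∧ ∃ Y : Subgroup G, Y ≠ ⊥ ∧ Y ≤ Cz D ∧ ¬ p ∣ Nat.card Y ∧ Nz D ≤ Nz Y

theorem Sit.comp_or_core (h : Sit p D) :
    (∃ L, CompIn p D L) ∨ ∃ Y : Subgroup G, Y ≠ ⊥ ∧ Y ≤ Cz D ∧ ¬ p ∣ Nat.card Y ∧ Nz D ≤ Nz Y := by
  have hKN : Cz D ≤ Nz D := centralizer_le_normalizer _
  by_cases h1 : pPrimeCore p (Cz D) = ⊥
  swap
  · right
    have hch := Lib.Cores.pPrimeCore_characteristic (G := Cz D) p
    refine ⟨(pPrimeCore p (Cz D)).map (Cz D).subtype, ?_, map_subtype_le _, ?_,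
      (Nz_le_Nz_Cz D).trans (Nz_le_Nz_char _)⟩
    · rwa [Ne, map_eq_bot_iff_of_injective _ (Cz D).subtype_injective]
    · rw [card_map_of_injective (Cz D).subtype_injective]
      exact not_dvd_core _
  left
  by_contra hcon
  push Not at hcon
  have hl : layer (Cz D) = ⊥ := by
    rw [eq_bot_iff, Components.layer_le_iff]
    intro J hJ
    exfalso
    have hd := Lib.PComponents.prime_dvd_card_component h1 hJ
    have hn : ((Cz D).subgroupOf (Nz D)).Normal := normal_subgroupOf_of_le_normalizer (Nz_le_Nz_Cz D)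
    let e := (subgroupOfEquivOfLe hKN).symm
    have h2 := Components.isComponent_map_subtype hn.isSubnormal (Components.isComponent_map_equiv e hJ)
    exact hcon _ (h.loc.compIn h2 (by
      rw [card_map_of_injective (subtype_injective _), card_map_of_injective e.injective]; exact hd))
  apply h.ncen
  have hch' := Lib.Cores.pCore_characteristic (G := Cz D) p
  have hO : (pCore p (Cz D)).map (Cz D).subtype ≤ D :=
    h.loc.rad _ ((Lib.Cores.pCore_isPGroup p).map _) ((Nz_le_Nz_Cz D).trans (Nz_le_Nz_char _))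
  refine (Lib.Cores.pCore_eq_top_iff p).1 (eq_top_iff.2 fun x _ => ?_)
  have h2 : x ∈ Cz (generalizedFittingSubgroup (Cz D)) := by
    refine mem_Cz_genFitting (p := p) ?_ ?_ ?_
    · exact mem_Cz.2 fun y hy => Subtype.ext (mem_Cz.1 x.2 _ (hO ⟨y, hy, rfl⟩))
    · rw [h1]; exact mem_Cz.2 fun y hy => by rw [mem_bot.1 hy, one_mul, mul_one]
    · rw [hl]; exact mem_Cz.2 fun y hy => by rw [mem_bot.1 hy, one_mul, mul_one]
  have h3 := Lib.GenFitting.centralizer_genFitting_le h2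
  rw [Lib.GenFitting.genFitting_def, hl, bot_sup_eq] at h3
  have h4 := fitting_le p _ h3
  rwa [h1, sup_bot_eq] at h4

/-- **The two cases.** -/
theorem Sit.tri (h : Sit p D) : (∃ L, CompIn p D L) ∨ Two p D := by
  rcases h.loc.dich with h1 | h1
  · rcases h.comp_or_core with h2 | h2
    · exact Or.inl h2
    · exact Or.inr ⟨h1, h2⟩
  · exact Or.inl (h.loc.comp_of_two h1)

theorem Sit.caseI (h : Sit p D) (h5 : ¬ p ^ 5 ∣ Nat.card G) : CaseI p D :=
  h.loc.dich.resolve_right fun h1 => h5 (h1.pow_five h.loc.rk)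

/-- in case I there is a `p`-central element in `D` -/
theorem central_of_caseI (h : Loc p D) (h1 : CaseI p D) :
    ∃ (P : Sylow p G) (z : G), D ≤ P ∧ (P : Subgroup G) ≤ Nz D ∧ z ∈ D ∧ orderOf z = p ∧ (P : Subgroup G) ≤ C1 z := by
  obtain ⟨P, hP1, hP2⟩ := h1
  obtain ⟨z, hz, hz1, hz2⟩ := exists_fix P.isPGroup' h.pgrp h.rk.ne_bot hP2
  exact ⟨P, z, hP1, hP2, hz, hz1, hz2⟩

theorem not_dvd_index {P : Sylow p G} {H : Subgroup G} (h : (P : Subgroup G) ≤ H) : ¬ p ∣ H.index :=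
  fun h1 => P.not_dvd_index (h1.trans (index_dvd_of_le h))

/-! ### the first case -/

theorem not_solvable {L : Subgroup G} (h : CompIn p D L) : ¬ Group.IsSolvable L :=
  Components.quasisimple_not_isSolvable h.quasi

theorem exists_prime_ne {K : Type*} [Group K] [Finite K] (h : ¬ Group.IsSolvable K) {q r : ℕ} (hq : q.Prime)
    (hr : r.Prime) : ∃ s : ℕ, s.Prime ∧ s ≠ q ∧ s ≠ r ∧ s ∣ Nat.card K := by
  by_contra hcon
  push Not at hcon
  apply h
  have hc : Nat.card K ≠ 0 := Nat.card_pos.ne'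
  obtain ⟨a, m, hm, hX⟩ := Nat.exists_eq_pow_mul_and_not_dvd hc q hq.ne_one
  have hm0 : m ≠ 0 := by
    rintro rfl
    exact hm (dvd_zero q)
  obtain ⟨b, k, hk, hmk⟩ := Nat.exists_eq_pow_mul_and_not_dvd hm0 r hr.ne_one
  have hk1 : k = 1 := by
    by_contra hk1
    obtain ⟨s, hs, hsk⟩ := Nat.exists_prime_and_dvd hk1
    refine hcon s hs ?_ ?_ ?_
    · rintro rfl
      exact hm (hmk ▸ hsk.mul_left _)
    · rintro rfl
      exact hk hsk
    · rw [hX, hmk]
      exact (hsk.mul_left _).mul_left _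
  rw [hmk, hk1, mul_one] at hX
  exact Cfsg.Agent.S0144.result q r a b hq hr hX

/-- an element of prime order `r ≠ p, q` in the component -/
theorem comp_exists_prime {L : Subgroup G} (h : CompIn p D L) {q : ℕ} (hq : q.Prime) :
    ∃ (r : ℕ) (y : G), r.Prime ∧ r ≠ q ∧ r ≠ p ∧ orderOf y = r ∧ y ∈ L ∧ D ≤ C1 y := by
  obtain ⟨r, hr, h1, h2, h3⟩ := exists_prime_ne (not_solvable h) hq hp.out
  have := Fact.mk hr
  obtain ⟨y, hy⟩ := exists_prime_orderOf_dvd_card' r h3
  exact ⟨r, y, hr, h1, h2, by rw [orderOf_coe, hy], y.2, fun d hd => mem_C1.2 (mem_Cz.1 (h.le y.2) d hd).symm⟩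

/-- an involution in the centre of a Sylow 2-subgroup of the component -/
theorem comp_exists_inv {L : Subgroup G} (h : CompIn p D L) :
    ∃ (t : G) (T : Subgroup G), orderOf t = 2 ∧ t ∈ T ∧ T ≤ L ∧ T ≤ C1 t ∧ IsPGroup 2 T ∧ 4 ∣ Nat.card T ∧
      ¬ 2 ∣ T.relIndex L ∧ D ≤ C1 t := by
  have := Fact.mk Nat.prime_two
  have h4 : 4 ∣ Nat.card L := by
    by_contra h4
    exact not_solvable h (Cfsg.Agent.SylowL5.TypeAGen.isSolvable_of_not_four_dvd h4)
  obtain ⟨T⟩ : Nonempty (Sylow 2 L) := inferInstance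
  have h1 : 2 ^ 2 ∣ Nat.card T := T.pow_dvd_card_of_pow_dvd_card h4
  have hc : Nat.card ((T : Subgroup L).map L.subtype) = Nat.card T := card_map_of_injective L.subtype_injective
  have hT : IsPGroup 2 ((T : Subgroup L).map L.subtype) := T.isPGroup'.map _
  have hne : (T : Subgroup L).map L.subtype ≠ ⊥ := by
    intro h2
    rw [h2, card_bot] at hc
    rw [← hc] at h1
    norm_num at h1
  obtain ⟨t, ht, ht2, htc⟩ := exists_fix hT hT hne le_normalizer
  refine ⟨t, _, ht2, ht, map_subtype_le _, htc, hT, by rw [hc]; exact h1, ?_,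
    fun d hd => mem_C1.2 (mem_Cz.1 (h.le (map_subtype_le _ ht)) d hd).symm⟩
  rw [relIndex, subgroupOf, comap_map_eq_self_of_injective L.subtype_injective]
  exact T.not_dvd_index

/-! ### the second case -/

theorem core_ne_bot {Y : Subgroup G} (hT : TI D) (h1 : Y ≠ ⊥) (h2 : Y ≤ Cz D) (h3 : ¬ p ∣ Nat.card Y)
    (h4 : Nz D ≤ Nz Y) {v : G} (hv : v ∈ D) (hv1 : v ≠ 1) : pPrimeCore p (C1 v) ≠ ⊥ := by
  intro h0
  apply h1
  have hle : Y ≤ C1 v := h2.trans (Cz_le_C1 hv)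
  have h5 : Y.subgroupOf (C1 v) ≤ pPrimeCore p (C1 v) := by
    refine Lib.Cores.le_pPrimeCore (normal_subgroupOf_of_le_normalizer ((hT.cent_le hv hv1).trans h4)) ?_
    rw [Nat.card_congr (subgroupOfEquivOfLe hle).toEquiv]
    exact ((Nat.Prime.coprime_iff_not_dvd hp.out).2 h3).symm
  rw [h0] at h5
  rw [eq_bot_iff]
  intro y hy
  exact congrArg Subtype.val (mem_bot.1 (h5 (show (⟨y, hle hy⟩ : C1 v) ∈ Y.subgroupOf (C1 v) from hy)))

/-- in the second case `O_{p'}(C(v)) ≠ 1` for all `v ∈ D#` -/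
theorem Two.core (h : Two p D) (hT : TI D) {v : G} (hv : v ∈ D) (hv1 : v ≠ 1) : pPrimeCore p (C1 v) ≠ ⊥ := by
  obtain ⟨-, Y, h1, h2, h3, h4⟩ := h
  exact core_ne_bot hT h1 h2 h3 h4 hv hv1

/-- the elements of order dividing `r` in the centre of `R` -/
def omg (r : ℕ) (R : Subgroup G) : Subgroup G where
  carrier := {v | v ∈ R ∧ v ∈ Cz R ∧ v ^ r = 1}
  one_mem' := ⟨R.one_mem, one_mem _, one_pow r⟩
  mul_mem' := by
    rintro a b ⟨ha, ha2, hac⟩ ⟨hb, hb2, hbc⟩
    refine ⟨R.mul_mem ha hb, mul_mem ha2 hb2, ?_⟩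
    rw [Commute.mul_pow (mem_Cz.1 hb2 a ha), hac, hbc, one_mul]
  inv_mem' := by
    rintro a ⟨ha, ha2, hac⟩
    exact ⟨R.inv_mem ha, inv_mem ha2, by rw [inv_pow, hac, inv_one]⟩

omit hp in
theorem Nz_le_omg (r : ℕ) (R : Subgroup G) : Nz R ≤ Nz (omg r R) :=
  le_Nz fun g hg x hx => ⟨conj_mem hg hx.1, conj_mem (Nz_le_Nz_Cz R hg) hx.2.1, by
    rw [conj_pow, hx.2.2, mul_one, mul_inv_cancel]⟩

omit hp in
theorem omg_el (r : ℕ) (R : Subgroup G) : IsElementaryAbelian r (omg r R) :=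
  ⟨⟨⟨fun a b => Subtype.ext (mem_Cz.1 b.2.2.1 a a.2.1)⟩⟩, fun _ ha => ha.2.2⟩

theorem omg_ne {R : Subgroup G} (hR : IsPGroup p R) (h1 : R ≠ ⊥) : omg p R ≠ ⊥ := by
  obtain ⟨z, hz, hzp, hzc⟩ := exists_fix hR hR h1 le_normalizer
  intro h
  have h2 : z ∈ omg p R := ⟨hz, mem_Cz.2 fun x hx => (mem_C1.1 (hzc hx)).symm, by rw [← hzp, pow_orderOf_eq_one]⟩
  rw [h, mem_bot] at h2
  exact ne_one_of_order hzp h2

/-- a `p`-group normalizing a `p'`-group `Y` normalizes a Sylow `r`-subgroup of `Y` -/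
theorem exists_inv_sylow {P Y : Subgroup G} (hP : IsPGroup p P) (hY : ¬ p ∣ Nat.card Y) (hn : P ≤ Nz Y) (r : ℕ)
    [Fact r.Prime] : ∃ R : Sylow r Y, P ≤ Nz ((R : Subgroup Y).map Y.subtype) := by
  classical
  let _ : MulAction P (Sylow r Y) := MulAction.compHom (Sylow r Y) (Y.normalizerMonoidHom.comp (inclusion hn))
  have h1 : ¬ p ∣ Nat.card (Sylow r Y) := by
    obtain ⟨R⟩ : Nonempty (Sylow r Y) := inferInstance
    exact fun h => hY ((h.trans R.card_dvd_index).trans (index_dvd_card _))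
  obtain ⟨R, hR⟩ := hP.nonempty_fixed_point_of_prime_not_dvd_card (Sylow r Y) h1
  refine ⟨R, le_Nz ?_⟩
  rintro g hg _ ⟨x, hx, rfl⟩
  have h2 : Y.normalizerMonoidHom (inclusion hn ⟨g, hg⟩) • R = R := hR ⟨g, hg⟩
  refine ⟨Y.normalizerMonoidHom (inclusion hn ⟨g, hg⟩) x, ?_, rfl⟩
  have h3 : Y.normalizerMonoidHom (inclusion hn ⟨g, hg⟩) x ∈
      ((Y.normalizerMonoidHom (inclusion hn ⟨g, hg⟩) • R : Sylow r Y) : Subgroup Y) := by
    rw [Sylow.pointwise_smul_def]
    exact smul_mem_pointwise_smul _ _ _ hx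
  rwa [h2] at h3

/-- in the second case a Sylow subgroup normalizes an elementary abelian `r`-subgroup of `C(D)` -/
theorem Two.elem (h : Two p D) : ∃ (P : Sylow p G) (r : ℕ) (E : Subgroup G), D ≤ P ∧ (P : Subgroup G) ≤ Nz D ∧
    r.Prime ∧ r ≠ p ∧ E ≠ ⊥ ∧ IsElementaryAbelian r E ∧ E ≤ Cz D ∧ (P : Subgroup G) ≤ Nz E := by
  obtain ⟨⟨P, hP1, hP2⟩, Y, h1, h2, h3, h4⟩ := h
  obtain ⟨r, hr, hrY⟩ := Nat.exists_prime_and_dvd (fun h5 => h1 (card_eq_one.1 h5))
  have := Fact.mk hr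
  obtain ⟨R, hR⟩ := exists_inv_sylow P.isPGroup' h3 (hP2.trans h4) r
  have hR1 : (R : Subgroup Y).map Y.subtype ≠ ⊥ := by
    rw [Ne, map_eq_bot_iff_of_injective _ Y.subtype_injective]
    exact R.ne_bot_of_dvd_card hrY
  refine ⟨P, r, omg r ((R : Subgroup Y).map Y.subtype), hP1, hP2, hr, fun h5 => h3 (h5 ▸ hrY),
    omg_ne (R.isPGroup'.map _) hR1, omg_el _ _, fun x hx => h2 (map_subtype_le _ hx.1), hR.trans (Nz_le_omg _ _)⟩

/-- **orbits**: a `p`-group `P` normalizing `E ≠ 1`: `|P|` divides `(|E| - 1) |C_P(y)|` for some `y ∈ E#` -/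
theorem exists_orbit {P E : Subgroup G} (hP : IsPGroup p P) (hE : E ≠ ⊥) (hn : P ≤ Nz E) :
    ∃ y ∈ E, y ≠ 1 ∧ Nat.card P ∣ (Nat.card E - 1) * Nat.card ↥(P ⊓ C1 y) := by
  classical
  let X := {v : G // v ∈ E ∧ v ≠ 1}
  let _ : MulAction P X :=
    { smul := fun c v => ⟨c * v.1 * (c : G)⁻¹, conj_mem (hn c.2) v.2.1, fun h => v.2.2 (by rwa [conj_eq_one_iff] at h)⟩
      one_smul := fun v => Subtype.ext (by
        change (1 : G) * v.1 * (1 : G)⁻¹ = v.1
        group)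
      mul_smul := fun a b v => Subtype.ext (by
        change ((a : G) * b) * v.1 * ((a : G) * b)⁻¹ = a * (b * v.1 * (b : G)⁻¹) * (a : G)⁻¹
        group) }
  have hX : Nat.card X = Nat.card E - 1 := by
    have h3 : Nat.card {v : E // v ≠ 1} = Nat.card E - 1 := by
      have := Fintype.ofFinite E
      rw [Nat.card_eq_fintype_card, Nat.card_eq_fintype_card, Fintype.card_subtype_compl, Fintype.card_subtype_eq]
    rw [← h3]
    exact Nat.card_congr ⟨fun v => ⟨⟨v.1, v.2.1⟩, fun h => v.2.2 (congrArg Subtype.val h)⟩,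
      fun v => ⟨v.1.1, v.1.2, fun h => v.2 (Subtype.ext h)⟩, fun _ => rfl, fun _ => rfl⟩
  have hst : ∀ v : X, Nat.card (MulAction.stabilizer P v) = Nat.card ↥(P ⊓ C1 v.1) := by
    intro v
    rw [← card_map_of_injective P.subtype_injective]
    congr 2
    ext x
    constructor
    · rintro ⟨c, hc, rfl⟩
      have h1 : (c : G) * v.1 * (c : G)⁻¹ = v.1 := congrArg Subtype.val (MulAction.mem_stabilizer_iff.1 hc)
      exact ⟨c.2, mem_C1.2 (mul_inv_eq_iff_eq_mul.1 h1).symm⟩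
    · intro hx
      refine ⟨⟨x, hx.1⟩, MulAction.mem_stabilizer_iff.2 (Subtype.ext ?_), rfl⟩
      change x * v.1 * x⁻¹ = v.1
      rw [← mem_C1.1 hx.2, mul_inv_cancel_right]
  have hX0 : Nat.card E - 1 ≠ 0 := by
    have := (one_lt_card_iff_ne_bot E).2 hE
    omega
  obtain ⟨a, m, hm, ham⟩ := Nat.exists_eq_pow_mul_and_not_dvd hX0 p hp.out.ne_one
  by_contra hcon
  push Not at hcon
  have key : ∀ v : X, p ^ (a + 1) ∣ Nat.card (MulAction.orbit P v) := by
    intro v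
    have ho : Nat.card (MulAction.orbit P v) * Nat.card (MulAction.stabilizer P v) = Nat.card P := by
      rw [Nat.card_congr (MulAction.orbitEquivQuotientStabilizer P v), mul_comm]
      exact (MulAction.stabilizer P v).card_mul_index
    obtain ⟨n, hn'⟩ := IsPGroup.iff_card.1 hP
    obtain ⟨i, -, hi⟩ := (Nat.dvd_prime_pow hp.out).1 (hn' ▸ Dvd.intro _ ho)
    rw [hi]
    apply pow_dvd_pow
    by_contra hij
    refine hcon v.1 v.2.1 v.2.2 ?_
    rw [← ho, hst, hi, ham]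
    exact Nat.mul_dvd_mul_right ((pow_dvd_pow p (by omega)).trans (dvd_mul_right _ _)) _
  have h1 : p ^ (a + 1) ∣ Nat.card X := by
    have := Fintype.ofFinite (MulAction.orbitRel.Quotient P X)
    rw [Nat.card_congr (MulAction.selfEquivSigmaOrbits P X), Nat.card_sigma]
    exact Finset.dvd_sum fun ω _ => key ω.out
  rw [hX, ham, pow_succ] at h1
  exact hm (Nat.dvd_of_mul_dvd_mul_left (pow_pos hp.out.pos a) h1)

/-- **The numerical form of the second case.** -/
theorem Two.num (h : Two p D) : ∃ (r k : ℕ) (y : G), r.Prime ∧ r ≠ p ∧ orderOf y = r ∧ D ≤ C1 y ∧ 1 ≤ k ∧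
    r ^ k ∣ Nat.card ↥(Cz D ⊓ C1 y) ∧ ∀ a, p ^ a ∣ Nat.card G → p ^ a ∣ (r ^ k - 1) * Nat.card (C1 y) := by
  obtain ⟨P, r, E, h1, -, hr, hrp, hE1, hE, hED, hPE⟩ := h.elem
  have := Fact.mk hr
  obtain ⟨y, hy, hy1, hd⟩ := exists_orbit P.isPGroup' hE1 hPE
  have hEp : IsPGroup r E := fun a => ⟨1, by rw [pow_one]; exact Subtype.ext (hE.2 a a.2)⟩
  obtain ⟨k, hk⟩ := IsPGroup.iff_card.1 hEp
  refine ⟨r, k, y, hr, hrp, el_order hE hy hy1, fun d hd => mem_C1.2 (mem_Cz.1 (hED hy) d hd).symm, ?_, ?_,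
    fun a ha => ?_⟩
  · by_contra h2
    exact hE1 (card_eq_one.1 (by rw [hk, show k = 0 by omega, pow_zero]))
  · rw [← hk]
    exact card_dvd_of_le (le_inf hED fun x hx => mem_C1.2 (el_comm hE hy hx))
  · rw [← hk]
    exact ((P.pow_dvd_card_of_pow_dvd_card ha).trans hd).trans
      (Nat.mul_dvd_mul_left _ (card_dvd_of_le inf_le_right))

end Cfsg.Agent.TID.SO
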