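import Cfsg.Agent.TID.SO.Red

/-!
# The row `KSporOdd` (helper20, project TID): the second case, continued

* `Two.num'` : the numerical form for a chosen prime;
* `Two.dich` : `O₂(C(v)) ≠ 1` for all `v ∈ D#`, or the numerical form with an odd prime;
* `noSit_of_odd`, `noSit_of_odd'`, `noSit_of_all` : master criteria.
-/

set_option autoImplicit false
set_option linter.unusedSectionVars false
set_option maxHeartbeats 400000

namespace Cfsg.Agent.TID.SO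

open Cfsg Subgroup Cfsg.Agent.TID
open scoped Pointwise commutatorElement

universe u v

variable {G : Type u} [Group G] [Finite G] {p : ℕ} [hp : Fact p.Prime] {D : Subgroup G}

/-- the numerical data of the second case for the prime `r` -/
def Num (p r : ℕ) (D : Subgroup G) : Prop :=
  ∃ (k : ℕ) (y : G), orderOf y = r ∧ D ≤ C1 y ∧ 1 ≤ k ∧ r ^ k ∣ Nat.card ↥(Cz D ⊓ C1 y) ∧
    ∀ a, p ^ a ∣ Nat.card G → p ^ a ∣ (r ^ k - 1) * Nat.card (C1 y)

theorem num_of {Y : Subgroup G} (h : CaseI p D) (h2 : Y ≤ Cz D) (h3 : ¬ p ∣ Nat.card Y) (h4 : Nz D ≤ Nz Y) {r : ℕ}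
    (hr : r.Prime) (hrY : r ∣ Nat.card Y) : Num p r D := by
  obtain ⟨P, hP1, hP2⟩ := h
  have := Fact.mk hr
  obtain ⟨R, hR⟩ := exists_inv_sylow P.isPGroup' h3 (hP2.trans h4) r
  have hR1 : (R : Subgroup Y).map Y.subtype ≠ ⊥ := by
    rw [Ne, map_eq_bot_iff_of_injective _ Y.subtype_injective]
    exact R.ne_bot_of_dvd_card hrY
  set E := omg r ((R : Subgroup Y).map Y.subtype) with hEd
  have hE1 : E ≠ ⊥ := omg_ne (R.isPGroup'.map _) hR1
  have hE : IsElementaryAbelian r E := omg_el _ _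
  have hED : E ≤ Cz D := fun x hx => h2 (map_subtype_le _ hx.1)
  have hPE : (P : Subgroup G) ≤ Nz E := hR.trans (Nz_le_omg _ _)
  obtain ⟨y, hy, hy1, hd⟩ := exists_orbit P.isPGroup' hE1 hPE
  have hEp : IsPGroup r E := fun a => ⟨1, by rw [pow_one]; exact Subtype.ext (hE.2 a a.2)⟩
  obtain ⟨k, hk⟩ := IsPGroup.iff_card.1 hEp
  refine ⟨k, y, el_order hE hy hy1, fun d hd => mem_C1.2 (mem_Cz.1 (hED hy) d hd).symm, ?_, ?_, fun a ha => ?_⟩
  · by_contra h2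
    exact hE1 (card_eq_one.1 (by rw [hk, show k = 0 by omega, pow_zero]))
  · rw [← hk]
    exact card_dvd_of_le (le_inf hED fun x hx => mem_C1.2 (el_comm hE hy hx))
  · rw [← hk]
    exact ((P.pow_dvd_card_of_pow_dvd_card ha).trans hd).trans
      (Nat.mul_dvd_mul_left _ (card_dvd_of_le inf_le_right))

/-- a nontrivial `r`-subgroup of `C(D)` normalized by `N(D)` lies in `O_r(C(v))` -/
theorem pCore_ne_bot {Y : Subgroup G} (hT : TI D) (h1 : Y ≠ ⊥) (h2 : Y ≤ Cz D) {r : ℕ} [Fact r.Prime]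
    (h3 : IsPGroup r Y) (h4 : Nz D ≤ Nz Y) {v : G} (hv : v ∈ D) (hv1 : v ≠ 1) : pCore r (C1 v) ≠ ⊥ := by
  intro h0
  apply h1
  have hle : Y ≤ C1 v := h2.trans (Cz_le_C1 hv)
  have h5 : Y.subgroupOf (C1 v) ≤ pCore r (C1 v) :=
    Lib.Cores.le_pCore (normal_subgroupOf_of_le_normalizer ((hT.cent_le hv hv1).trans h4)) h3.comap_subtype
  rw [h0] at h5
  rw [eq_bot_iff]
  intro y hy
  exact congrArg Subtype.val (mem_bot.1 (h5 (show (⟨y, hle hy⟩ : C1 v) ∈ Y.subgroupOf (C1 v) from hy)))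

/-- **The dichotomy in the second case.** -/
theorem Two.dich (h : Two p D) (hT : TI D) :
    (∀ v ∈ D, v ≠ 1 → pCore 2 (C1 v) ≠ ⊥) ∨ ∃ r : ℕ, r.Prime ∧ r ≠ 2 ∧ r ≠ p ∧ Num p r D := by
  obtain ⟨h0, Y, h1, h2, h3, h4⟩ := h
  by_cases h5 : ∃ r : ℕ, r.Prime ∧ r ≠ 2 ∧ r ∣ Nat.card Y
  · obtain ⟨r, hr, hr2, hrY⟩ := h5
    exact Or.inr ⟨r, hr, hr2, fun h6 => h3 (h6 ▸ hrY), num_of h0 h2 h3 h4 hr hrY⟩
  · left
    have := Fact.mk Nat.prime_two
    have h6 : IsPGroup 2 Y := by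
      refine IsPGroup.of_card (n := (Nat.card Y).primeFactorsList.length) ?_
      refine Nat.eq_prime_pow_of_unique_prime_dvd Nat.card_pos.ne' fun {d} hd hdY => ?_
      by_contra h7
      exact h5 ⟨d, hd, h7, hdY⟩
    exact fun v hv hv1 => pCore_ne_bot hT h1 h2 h6 h4 hv hv1

/-- `V` is an elementary abelian subgroup of order `p ^ 2` commuting with an element of order `r` -/
def Com (p r : ℕ) (G : Type u) [Group G] : Prop :=
  ∃ (V : Subgroup G) (y : G), IsElementaryAbelian p V ∧ Nat.card V = p ^ 2 ∧ orderOf y = r ∧ V ≤ C1 y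

theorem com_of (h : Rk2 p D) {y : G} (hy : D ≤ C1 y) : Com p (orderOf y) G := by
  obtain ⟨V, h1, h2, h3⟩ := h
  exact ⟨V, y, h2, h3, rfl, h1.trans hy⟩

omit [Finite G] hp in
theorem Com.map {H : Type v} [Group H] {r : ℕ} (h : Com p r G) (f : G →* H) (hf : Function.Injective f) : Com p r H := by
  obtain ⟨V, y, h1, h2, h3, h4⟩ := h
  obtain ⟨W, h5, h6, h7⟩ := rk2_map (⟨V, le_rfl, h1, h2⟩ : Rk2 p V) hf
  refine ⟨W, f y, h6, h7, by rw [orderOf_injective f hf, h3], fun w hw => ?_⟩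
  obtain ⟨x, hx, rfl⟩ := h5 hw
  exact mem_C1.2 (by rw [← map_mul, ← map_mul, mem_C1.1 (h4 hx)])

/-- `z` is a `p`-central element of order `p` -/
def PC (p : ℕ) (z : G) : Prop := orderOf z = p ∧ ¬ p ∣ (C1 z).index

omit hp in
theorem PC.dvd {z : G} (h : PC p z) {a : ℕ} (hp : p.Prime) (ha : p ^ a ∣ Nat.card G) : p ^ a ∣ Nat.card (C1 z) := by
  rw [← (C1 z).index_mul_card] at ha
  exact (Nat.Coprime.pow_left a ((Nat.Prime.coprime_iff_not_dvd hp).2 h.2)).dvd_of_dvd_mul_left ha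

theorem Two.exists_pc (h : Two p D) (hD : Loc p D) : ∃ z ∈ D, PC p z := by
  obtain ⟨P, z, -, -, h1, h2, h3⟩ := central_of_caseI hD h.1
  exact ⟨z, h1, h2, not_dvd_index h3⟩

/-- **Master criterion**: no element of odd prime order `r ≠ p` commutes with a `p²`, and `O₂(C(z)) = 1` for the
`p`-central elements `z`. -/
theorem noSit_of_odd (h1 : ∀ r : ℕ, r.Prime → r ≠ 2 → r ≠ p → ¬ Com p r G)
    (h2 : ∀ z : G, PC p z → pCore 2 (C1 z) = ⊥) : NoSit p G := by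
  intro D hD
  rcases hD.tri with ⟨L, hL⟩ | hT
  · obtain ⟨r, y, hr, hr2, hrp, hy, -, hDy⟩ := comp_exists_prime hL Nat.prime_two
    exact h1 r hr hr2 hrp (hy ▸ com_of hD.loc.rk hDy)
  · rcases hT.dich hD.loc.ti with h3 | ⟨r, hr, hr2, hrp, k, y, hy, hDy, -⟩
    · obtain ⟨z, hz, hzc⟩ := hT.exists_pc hD.loc
      exact h3 z hz (ne_one_of_order hzc.1) (h2 z hzc)
    · exact h1 r hr hr2 hrp (hy ▸ com_of hD.loc.rk hDy)

/-- the same for groups of characteristic 2 type -/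
theorem noSit_of_charTwo (hG : IsCharacteristicTwoType G) (hp2 : p ≠ 2) {D : Subgroup G} (hD : Sit p D) :
    ¬ (∃ L, CompIn p D L) ∧ ∃ r : ℕ, r.Prime ∧ r ≠ 2 ∧ r ≠ p ∧ Num p r D ∧ Two p D := by
  have h0 : ∀ t : G, orderOf t = 2 → ¬ D ≤ C1 t := fun t ht h =>
    false_of_charTwo hG hp2 hD.loc.pgrp hD.loc.ti le_rfl hD.loc.rk ht h
  have h1 : ¬ ∃ L, CompIn p D L := by
    rintro ⟨L, hL⟩
    obtain ⟨t, T, ht, -, -, -, -, -, -, hDt⟩ := comp_exists_inv hL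
    exact h0 t ht hDt
  refine ⟨h1, ?_⟩
  have hT := hD.tri.resolve_left h1
  obtain ⟨hc, Y, h2, h3, h4, h5⟩ := hT
  obtain ⟨r, hr, hrY⟩ := Nat.exists_prime_and_dvd (fun h6 => h2 (card_eq_one.1 h6))
  have h6 := num_of hc h3 h4 h5 hr hrY
  refine ⟨r, hr, ?_, fun h7 => h4 (h7 ▸ hrY), h6, hc, Y, h2, h3, h4, h5⟩
  rintro rfl
  obtain ⟨k, y, hy, hDy, -⟩ := h6
  exact h0 y hy hDy

theorem noSit_of_odd' (hG : IsCharacteristicTwoType G) (hp2 : p ≠ 2)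
    (h1 : ∀ r : ℕ, r.Prime → r ≠ 2 → r ≠ p → ¬ Com p r G) : NoSit p G := by
  intro D hD
  obtain ⟨-, r, hr, hr2, hrp, ⟨k, y, hy, hDy, -⟩, -⟩ := noSit_of_charTwo hG hp2 hD
  exact h1 r hr hr2 hrp (hy ▸ com_of hD.loc.rk hDy)

/-- no element of prime order `r ≠ p` commutes with a `p²` -/
theorem noSit_of_all (h1 : ∀ r : ℕ, r.Prime → r ≠ p → ¬ Com p r G) : NoSit p G := by
  intro D hD
  obtain ⟨r, y, hr, hrp, hy, hDy⟩ := hD.exists_prime
  exact h1 r hr hrp (hy ▸ com_of hD.loc.rk hDy)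

omit [Finite G] hp in
theorem Com.sq_dvd {r : ℕ} (h : Com p r G) : ∃ y : G, orderOf y = r ∧ p ^ 2 ∣ Nat.card (C1 y) := by
  obtain ⟨V, y, -, h2, h3, h4⟩ := h
  exact ⟨y, h3, h2 ▸ card_dvd_of_le h4⟩

/-- an element of order `p` whose centralizer has order divisible by `p ^ 2 r` -/
theorem Com.cent {r : ℕ} (h : Com p r G) (hr : r.Prime) (hrp : r ≠ p) :
    ∃ v : G, orderOf v = p ∧ p ^ 2 * r ∣ Nat.card (C1 v) := by
  obtain ⟨V, y, h1, h2, h3, h4⟩ := h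
  obtain ⟨v, hv, hv1⟩ := V.bot_or_exists_ne_one.resolve_left (el_ne_bot h2)
  refine ⟨v, el_order h1 hv hv1, Nat.Coprime.mul_dvd_of_dvd_of_dvd
    (Nat.Coprime.pow_left 2 ((Nat.coprime_primes hp.out hr).2 hrp.symm)) ?_ ?_⟩
  · rw [← h2]
    exact card_dvd_of_le fun x hx => mem_C1.2 (el_comm h1 hv hx)
  · rw [← h3]
    exact orderOf_dvd_natCard _ (mem_C1.2 (mem_C1.1 (h4 hv)).symm)

end Cfsg.Agent.TID.SO
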